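import Cfsg.Agent.Known.SLTwo.Unip

/-! Centralizer types in SL₂, element orders and centralizers in PSL₂. -/

set_option autoImplicit false
set_option linter.unusedSectionVars false

open Matrix
open scoped MatrixGroups

namespace Cfsg.Lib.GLTwo

variable {F : Type*} [Field F]

theorem eq_pm_one_of_sq (h2 : (2 : F) ≠ 0) {g : SL(2, F)} (h : g * g = 1) : g = 1 ∨ g = -1 := by
  have e : ((g⁻¹ : SL(2, F)) : Matrix (Fin 2) (Fin 2) F) = (g : Matrix (Fin 2) (Fin 2) F) := by
    rw [inv_eq_of_mul_eq_one_left h]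
  rw [Matrix.SpecialLinearGroup.coe_inv, Matrix.adjugate_fin_two] at e
  have e00 := congrFun (congrFun e 0) 0
  have e01 := congrFun (congrFun e 0) 1
  have e10 := congrFun (congrFun e 1) 0
  simp at e00 e01 e10
  have h01 : (g : Matrix (Fin 2) (Fin 2) F) 0 1 = 0 :=
    (mul_eq_zero.1 (show (2 : F) * (g : Matrix (Fin 2) (Fin 2) F) 0 1 = 0 by linear_combination -e01)).resolve_left h2
  have h10 : (g : Matrix (Fin 2) (Fin 2) F) 1 0 = 0 :=
    (mul_eq_zero.1 (show (2 : F) * (g : Matrix (Fin 2) (Fin 2) F) 1 0 = 0 by linear_combination -e10)).resolve_left h2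
  obtain ⟨r, rfl⟩ := eq_upper_of_scalar (g := g) (not_not.2 ⟨h01, h10, e00.symm⟩)
  rcases mul_self_eq_one_iff.1 r.2 with hr | hr
  · left; refine Subtype.ext ?_
    simp only [coe_upper, hr, Matrix.SpecialLinearGroup.coe_one]
    ext i j; fin_cases i <;> fin_cases j <;> simp
  · right; refine Subtype.ext ?_
    simp only [coe_upper, hr, Matrix.SpecialLinearGroup.coe_neg, Matrix.SpecialLinearGroup.coe_one]
    ext i j; fin_cases i <;> fin_cases j <;> simp

theorem mem_center_iff_pm (z : SL(2, F)) : z ∈ Subgroup.center SL(2, F) ↔ z = 1 ∨ z = -1 := by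
  rw [mem_center_iff]
  constructor
  · intro h
    obtain ⟨r, rfl⟩ := eq_upper_of_scalar h
    rcases mul_self_eq_one_iff.1 r.2 with hr | hr
    · left; refine Subtype.ext ?_
      simp only [coe_upper, hr, Matrix.SpecialLinearGroup.coe_one]
      ext i j; fin_cases i <;> fin_cases j <;> simp
    · right; refine Subtype.ext ?_
      simp only [coe_upper, hr, Matrix.SpecialLinearGroup.coe_neg, Matrix.SpecialLinearGroup.coe_one]
      ext i j; fin_cases i <;> fin_cases j <;> simp
  · rintro (rfl | rfl)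
    · exact one_mem_center
    · exact not_not.2 ⟨by simp, by simp, by simp⟩

/-- The projection to PSL₂. -/
abbrev prj : SL(2, F) →* Matrix.ProjectiveSpecialLinearGroup (Fin 2) F := QuotientGroup.mk' _

theorem prj_eq_one_iff (z : SL(2, F)) : prj z = 1 ↔ z = 1 ∨ z = -1 :=
  (QuotientGroup.eq_one_iff z).trans (mem_center_iff_pm z)

theorem neg_one_eq_one [CharP F 2] : (-1 : SL(2, F)) = 1 := Subtype.ext <| by
  simp only [Matrix.SpecialLinearGroup.coe_neg, Matrix.SpecialLinearGroup.coe_one]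
  ext i j; fin_cases i <;> fin_cases j <;> simp [CharTwo.neg_eq]

theorem prj_injective [CharP F 2] : Function.Injective (prj (F := F)) :=
  (injective_iff_map_eq_one _).2 fun z hz => ((prj_eq_one_iff z).1 hz).elim id fun h => h.trans neg_one_eq_one

theorem prj_pow_eq_one_iff (h2 : (2 : F) ≠ 0) (s : SL(2, F)) (k : ℕ) : prj s ^ k = 1 ↔ (s ^ 2) ^ k = 1 := by
  rw [← map_pow, prj_eq_one_iff, ← pow_mul, mul_comm, pow_mul, sq]
  constructor
  · rintro (h | h) <;> simp [h]
  · exact eq_pm_one_of_sq h2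

theorem combo_comm' (A : Matrix (Fin 2) (Fin 2) F) (a b c d : F) :
    combo A a b * combo A c d = combo A c d * combo A a b := by
  simp only [combo, add_mul, mul_add, Matrix.smul_mul, Matrix.mul_smul, Matrix.one_mul, Matrix.mul_one, smul_smul, smul_add]
  rw [mul_comm a c, mul_comm b c, mul_comm a d, mul_comm b d]
  abel

theorem cent_comm {g : SL(2, F)} (hg : NonScalar (g : Matrix (Fin 2) (Fin 2) F)) :
    ∀ x ∈ Subgroup.centralizer ({g} : Set SL(2, F)), ∀ y ∈ Subgroup.centralizer ({g} : Set SL(2, F)), x * y = y * x := by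
  intro x hx y hy
  obtain ⟨a, b, hab⟩ := exists_combo hg (congrArg (fun z : SL(2, F) => (z : Matrix (Fin 2) (Fin 2) F))
    (Subgroup.mem_centralizer_singleton_iff.1 hx))
  obtain ⟨c, d, hcd⟩ := exists_combo hg (congrArg (fun z : SL(2, F) => (z : Matrix (Fin 2) (Fin 2) F))
    (Subgroup.mem_centralizer_singleton_iff.1 hy))
  refine Subtype.ext ?_
  simp only [Matrix.SpecialLinearGroup.coe_mul]
  rw [hab, hcd]
  exact combo_comm' _ a b c d

variable [Fintype F]

/-- The number of square roots of one. -/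
theorem card_sq_one_eq : Nat.card {x : F // x * x = 1} = Nat.gcd 2 (Fintype.card F - 1) := by
  have hq := Fintype.one_lt_card (α := F)
  rcases Nat.even_or_odd (Fintype.card F) with he | ho
  · haveI : CharP F 2 := by
      have h2 : ringChar F = 2 := FiniteField.even_card_iff_char_two.2 (Nat.even_iff.1 he)
      exact ringChar.eq_iff.1 h2
    obtain ⟨k, hk⟩ := he
    rw [card_sq_one_char_two]
    exact ((Nat.coprime_two_left (n := Fintype.card F - 1)).2 ⟨k - 1, by omega⟩).gcd_eq_one.symm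
  · obtain ⟨k, hk⟩ := id ho
    rw [card_sq_one (two_ne_zero_of_odd ho), Nat.gcd_eq_left ⟨k, by omega⟩]

/-- The three kinds of non-scalar elements. -/
theorem kinds {g : SL(2, F)} (hg : NonScalar (g : Matrix (Fin 2) (Fin 2) F)) :
    (Irred (g : Matrix (Fin 2) (Fin 2) F).trace 1 ∧
        Nat.card ↥(Subgroup.centralizer ({g} : Set SL(2, F))) = Fintype.card F + 1) ∨
      ((∃ r s, r ≠ s ∧ (g : Matrix (Fin 2) (Fin 2) F).trace = r + s ∧ (1 : F) = r * s) ∧
        Nat.card ↥(Subgroup.centralizer ({g} : Set SL(2, F))) = Fintype.card F - 1) ∨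
      ((∃ r, r * r = 1 ∧ (g : Matrix (Fin 2) (Fin 2) F).trace = r + r) ∧
        Nat.card ↥(Subgroup.centralizer ({g} : Set SL(2, F))) = Nat.gcd 2 (Fintype.card F - 1) * Fintype.card F) := by
  rw [card_centSL hg]
  rcases trichotomy (g : Matrix (Fin 2) (Fin 2) F).trace (1 : F) with h | ⟨r, s, hrs, ht, hd⟩ | ⟨r, ht, hd⟩
  · exact .inl ⟨h, card_one_irred h⟩
  · exact .inr (.inl ⟨⟨r, s, hrs, ht, hd⟩, card_one_split hrs ht hd⟩)
  · exact .inr (.inr ⟨⟨r, hd.symm, ht⟩, (card_one_double ht hd).trans (by rw [card_sq_one_eq])⟩)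

theorem pow_card_cent (g : SL(2, F)) :
    g ^ Nat.card ↥(Subgroup.centralizer ({g} : Set SL(2, F))) = 1 := by
  have := pow_card_eq_one' (x := (⟨g, Subgroup.mem_centralizer_singleton_iff.2 rfl⟩ : ↥(Subgroup.centralizer ({g} : Set SL(2, F)))))
  have h := congrArg Subtype.val this
  rwa [Subgroup.coe_pow, Subgroup.coe_one] at h

theorem irred_iff (t : F) : Irred t 1 ↔ ∀ r : F, r ≠ 0 → t ≠ r + r⁻¹ := by
  constructor
  · intro h r hr e
    exact h r (by rw [e]; field_simp; ring)
  · intro h x hx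
    have hx0 : x ≠ 0 := by rintro rfl; simp at hx
    exact h x hx0 (by field_simp; linear_combination -hx)

theorem exists_irred : ∃ t : F, Irred t 1 := by
  classical
  by_contra h
  push Not at h
  have hsurj : Function.Surjective fun r : {r : F // r ≠ 0} => (r : F) + (r : F)⁻¹ := by
    intro t
    have := h t
    rw [irred_iff] at this
    push Not at this
    obtain ⟨r, hr, e⟩ := this
    exact ⟨⟨r, hr⟩, e.symm⟩
  have := Nat.card_le_card_of_surjective _ hsurj
  rw [card_ne_zero', Nat.card_eq_fintype_card] at this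
  have := Fintype.one_lt_card (α := F)
  omega

theorem irred_cyclic (p : ℕ) [Fact p.Prime] [CharP F p] {g : SL(2, F)} (hg : NonScalar (g : Matrix (Fin 2) (Fin 2) F))
    (hi : Irred (g : Matrix (Fin 2) (Fin 2) F).trace 1) :
    IsCyclic ↥(Subgroup.centralizer ({g} : Set SL(2, F))) := by
  refine Cfsg.Lib.Classical.SLTwoTori.isCyclic_of_comm p _ (cent_comm hg) fun a ha => ?_
  have hc : Nat.card ↥(Subgroup.centralizer ({g} : Set SL(2, F))) = Fintype.card F + 1 := by
    rw [card_centSL hg, card_one_irred hi]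
  have hd : orderOf a ∣ Fintype.card F + 1 := hc ▸ Subgroup.orderOf_dvd_natCard _ ha
  refine Nat.Coprime.coprime_dvd_left hd ?_
  obtain ⟨k, -, hk⟩ := FiniteField.card F p
  rw [Nat.coprime_comm, (Fact.out : p.Prime).coprime_iff_not_dvd, hk]
  exact fun h => (Fact.out : p.Prime).not_dvd_one ((Nat.dvd_add_right (dvd_pow_self p k.pos.ne')).1 h)

theorem exists_orderOf_add_one : ∃ s : SL(2, F), orderOf s = Fintype.card F + 1 := by
  obtain ⟨t, ht⟩ := exists_irred (F := F)
  obtain ⟨p, hp⟩ := CharP.exists F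
  haveI : Fact p.Prime := ⟨CharP.char_is_prime F p⟩
  have hg : NonScalar ((compSL t : SL(2, F)) : Matrix (Fin 2) (Fin 2) F) := nonScalar_comp t 1
  have htr : ((compSL t : SL(2, F)) : Matrix (Fin 2) (Fin 2) F).trace = t := trace_comp t 1
  haveI := irred_cyclic p hg (by rw [htr]; exact ht)
  obtain ⟨x, hx⟩ := IsCyclic.exists_generator (α := ↥(Subgroup.centralizer ({compSL t} : Set SL(2, F))))
  refine ⟨x, ?_⟩
  rw [Subgroup.orderOf_coe, orderOf_eq_card_of_forall_mem_zpowers hx, card_centSL hg, htr, card_one_irred ht]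

/-- The diagonal torus. -/
def torus : Fˣ →* SL(2, F) where
  toFun a := ⟨!![(a : F), 0; 0, ((a⁻¹ : Fˣ) : F)], by simp [Matrix.det_fin_two]⟩
  map_one' := Subtype.ext (by ext i j; fin_cases i <;> fin_cases j <;> simp)
  map_mul' a b := Subtype.ext (by
    change !![((a * b : Fˣ) : F), 0; 0, (((a * b)⁻¹ : Fˣ) : F)] =
      !![(a : F), 0; 0, ((a⁻¹ : Fˣ) : F)] * !![(b : F), 0; 0, ((b⁻¹ : Fˣ) : F)]
    ext i j; fin_cases i <;> fin_cases j <;> simp [Matrix.mul_apply, Fin.sum_univ_two, mul_comm])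

theorem torus_injective : Function.Injective (torus (F := F)) := fun a b h => by
  have e := congrArg (fun z : SL(2, F) => (z : Matrix (Fin 2) (Fin 2) F) 0 0) h
  change (a : F) = b at e
  exact Units.ext e

theorem exists_orderOf_sub_one : ∃ s : SL(2, F), orderOf s = Fintype.card F - 1 := by
  classical
  obtain ⟨ζ, hζ⟩ := IsCyclic.exists_generator (α := Fˣ)
  refine ⟨torus ζ, ?_⟩
  rw [orderOf_injective _ torus_injective, orderOf_eq_card_of_forall_mem_zpowers hζ, Nat.card_units, Nat.card_eq_fintype_card]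

theorem orderOf_prj (s : SL(2, F)) : orderOf (prj s) = orderOf (s ^ Nat.gcd 2 (Fintype.card F - 1)) := by
  have hq := Fintype.one_lt_card (α := F)
  rcases Nat.even_or_odd (Fintype.card F) with he | ho
  · haveI : CharP F 2 := ringChar.eq_iff.1 (FiniteField.even_card_iff_char_two.2 (Nat.even_iff.1 he))
    obtain ⟨k, hk⟩ := he
    rw [(Nat.coprime_two_left (n := Fintype.card F - 1)).2 ⟨k - 1, by omega⟩, pow_one,
      orderOf_injective _ prj_injective]
  · obtain ⟨k, hk⟩ := id ho
    rw [Nat.gcd_eq_left ⟨k, by omega⟩]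
    exact orderOf_eq_orderOf_iff.2 (prj_pow_eq_one_iff (two_ne_zero_of_odd ho) s)

theorem index_cent_prj_mul (s : SL(2, F)) :
    (Subgroup.centralizer ({prj s} : Set (Matrix.ProjectiveSpecialLinearGroup (Fin 2) F))).index *
      Nat.card ↥((Subgroup.centralizer ({prj s} : Set (Matrix.ProjectiveSpecialLinearGroup (Fin 2) F))).comap prj) =
      Fintype.card F * (Fintype.card F ^ 2 - 1) := by
  rw [← Cfsg.Lib.Classical.SLTwoTori.card_SL2, ← Subgroup.index_comap_of_surjective _ (QuotientGroup.mk'_surjective _),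
    mul_comm, Subgroup.card_mul_index]

theorem mem_comap_cent {s x : SL(2, F)} :
    x ∈ (Subgroup.centralizer ({prj s} : Set (Matrix.ProjectiveSpecialLinearGroup (Fin 2) F))).comap prj ↔
      x * s * x⁻¹ = s ∨ x * s * x⁻¹ = -s := by
  rw [Subgroup.mem_comap, Subgroup.mem_centralizer_singleton_iff, ← map_mul, ← map_mul,
    ← mul_inv_eq_one, ← map_inv, ← map_mul, prj_eq_one_iff, show x * s * (s * x)⁻¹ = x * s * x⁻¹ * s⁻¹ by group]
  rw [mul_inv_eq_one, mul_inv_eq_iff_eq_mul (b := s) (c := -1), neg_one_mul]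

theorem card_comap_cent_of_trace_ne {s : SL(2, F)}
    (ht : (s : Matrix (Fin 2) (Fin 2) F).trace ≠ 0 ∨ CharP F 2) :
    Nat.card ↥((Subgroup.centralizer ({prj s} : Set (Matrix.ProjectiveSpecialLinearGroup (Fin 2) F))).comap prj) =
      Nat.card ↥(Subgroup.centralizer ({s} : Set SL(2, F))) := by
  refine Nat.card_congr (Equiv.subtypeEquivRight fun x => ?_)
  rw [mem_comap_cent, Subgroup.mem_centralizer_singleton_iff, ← mul_inv_eq_iff_eq_mul]
  refine ⟨fun h => h.elim id fun hneg => ?_, Or.inl⟩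
  rcases ht with ht | hc
  · rcases eq_or_ne (2 : F) 0 with h2 | h2
    · rw [hneg]; refine Subtype.ext ?_
      simp only [Matrix.SpecialLinearGroup.coe_neg]
      ext i j
      rw [Matrix.neg_apply, neg_eq_iff_add_eq_zero, ← two_mul, h2, zero_mul]
    · exfalso
      have h := trace_eq_of_isConj (isConj_iff.2 ⟨x, hneg⟩)
      rw [Matrix.SpecialLinearGroup.coe_neg, Matrix.trace_neg] at h
      exact ht ((mul_eq_zero.1 (show (2 : F) * (s : Matrix (Fin 2) (Fin 2) F).trace = 0 by linear_combination h)).resolve_left h2)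
  · haveI := hc
    rw [hneg, ← neg_one_mul s, neg_one_eq_one, one_mul]

theorem card_comap_cent_of_trace_eq (h2 : (2 : F) ≠ 0) {s : SL(2, F)} (hs : NonScalar (s : Matrix (Fin 2) (Fin 2) F))
    (ht : (s : Matrix (Fin 2) (Fin 2) F).trace = 0) :
    Nat.card ↥((Subgroup.centralizer ({prj s} : Set (Matrix.ProjectiveSpecialLinearGroup (Fin 2) F))).comap prj) =
      2 * Nat.card ↥(Subgroup.centralizer ({s} : Set SL(2, F))) := by
  classical
  set K := (Subgroup.centralizer ({prj s} : Set (Matrix.ProjectiveSpecialLinearGroup (Fin 2) F))).comap prj with hK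
  set C := Subgroup.centralizer ({s} : Set SL(2, F)) with hC
  have hneg : NonScalar (((-s : SL(2, F))) : Matrix (Fin 2) (Fin 2) F) := fun h => hs (by
    obtain ⟨a, b, c⟩ := h; simp at a b c; exact ⟨a, b, c⟩)
  have hfull := full_SL s hs (.inl fun r hr e => h2 (by
    have h0 : (2 : F) * r = 0 := by linear_combination e.symm.trans ht
    exact absurd ((mul_eq_zero.1 h0).resolve_left h2) (left_ne_zero_of_mul_eq_one hr)))
  obtain ⟨x, hx⟩ := isConj_iff.1 (isConj_SL hs hneg
    (by rw [Matrix.SpecialLinearGroup.coe_neg, Matrix.trace_neg, ht, neg_zero]) hfull)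
  have hne : (-s : SL(2, F)) ≠ s := fun e => hs (by
    have e' : ∀ i j, (s : Matrix (Fin 2) (Fin 2) F) i j = 0 := fun i j => by
      have := congrArg (fun z : SL(2, F) => (z : Matrix (Fin 2) (Fin 2) F) i j) e
      simp at this
      exact (mul_eq_zero.1 (show (2 : F) * (s : Matrix (Fin 2) (Fin 2) F) i j = 0 by linear_combination -this)).resolve_left h2
    exact ⟨e' 0 1, e' 1 0, by rw [e', e']⟩)
  have hCK : ∀ c ∈ C, c ∈ K := fun c hc => mem_comap_cent.2 (.inl (mul_inv_eq_iff_eq_mul.2 (Subgroup.mem_centralizer_singleton_iff.1 hc)))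
  have hxK : x ∈ K := mem_comap_cent.2 (.inr hx)
  have hxC : x ∉ C := fun h => hne (by rw [← hx, mul_inv_eq_iff_eq_mul.2 (Subgroup.mem_centralizer_singleton_iff.1 h)])
  let φ : Bool × ↥C → ↥K := fun bc => ⟨(if bc.1 then x else 1) * bc.2, by
    rcases bc with ⟨_ | _, c, hc⟩
    · simpa using hCK c hc
    · simpa using mul_mem hxK (hCK c hc)⟩
  have hφ : Function.Bijective φ := by
    constructor
    · rintro ⟨b, c⟩ ⟨b', c'⟩ h
      have e : (if b then x else 1) * (c : SL(2, F)) = (if b' then x else 1) * c' := congrArg Subtype.val h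
      cases b <;> cases b' <;> simp at e
      · exact Prod.ext rfl e
      · exact absurd (by rw [← mul_inv_eq_iff_eq_mul.2 e]; exact mul_mem c.2 (inv_mem c'.2)) hxC
      · exact absurd (by rw [← mul_inv_eq_iff_eq_mul.2 e.symm]; exact mul_mem c'.2 (inv_mem c.2)) hxC
      · exact Prod.ext rfl e
    · rintro ⟨k, hk⟩
      rcases mem_comap_cent.1 hk with h | h
      · exact ⟨(false, ⟨k, Subgroup.mem_centralizer_singleton_iff.2 (mul_inv_eq_iff_eq_mul.1 h)⟩), Subtype.ext (by simp [φ])⟩
      · refine ⟨(true, ⟨x⁻¹ * k, Subgroup.mem_centralizer_singleton_iff.2 ?_⟩), Subtype.ext (by simp [φ])⟩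
        have h1 : k * s = (-s) * k := mul_inv_eq_iff_eq_mul.1 h
        rw [mul_assoc, h1, ← hx]
        group
  rw [← Nat.card_congr (Equiv.ofBijective φ hφ), Nat.card_prod, Nat.card_eq_fintype_card (α := Bool), Fintype.card_bool]

end Cfsg.Lib.GLTwo
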