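import Cfsg.Agent.Known.SLTwo.Torus

/-! The maximal tori of SL₂ in odd characteristic and their normalizers. -/

set_option autoImplicit false
set_option linter.unusedSectionVars false

open Matrix
open scoped MatrixGroups

namespace Cfsg.Lib.GLTwo

variable {F : Type*} [Field F]

/-- Non-scalar with two distinct eigenvalues. -/
def Reg (g : SL(2, F)) : Prop :=
  NonScalar (g : Matrix (Fin 2) (Fin 2) F) ∧
    (g : Matrix (Fin 2) (Fin 2) F).trace * (g : Matrix (Fin 2) (Fin 2) F).trace ≠ 4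

theorem scalar_pm {g : SL(2, F)} (h : ¬ NonScalar (g : Matrix (Fin 2) (Fin 2) F)) : g = 1 ∨ g = -1 := by
  obtain ⟨r, rfl⟩ := eq_upper_of_scalar h
  rcases mul_self_eq_one_iff.1 r.2 with e | e
  · exact .inl (Subtype.ext (by ext i j; fin_cases i <;> fin_cases j <;> simp [e]))
  · exact .inr (Subtype.ext (by ext i j; fin_cases i <;> fin_cases j <;> simp [e]))

theorem nonScalar_of_ne {g : SL(2, F)} (h1 : g ≠ 1) (hm : g ≠ -1) : NonScalar (g : Matrix (Fin 2) (Fin 2) F) := by
  by_contra h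
  exact (scalar_pm h).elim h1 hm

theorem not_nonScalar_pm {g : SL(2, F)} (h : g = 1 ∨ g = -1) : ¬ NonScalar (g : Matrix (Fin 2) (Fin 2) F) := by
  intro hn
  rcases h with rfl | rfl <;> exact hn ⟨by simp, by simp, by simp⟩

theorem pm_mem_cen {g x : SL(2, F)} (h : x = 1 ∨ x = -1) : x ∈ Subgroup.centralizer ({g} : Set SL(2, F)) :=
  Subgroup.mem_centralizer_singleton_iff.2 (by rcases h with rfl | rfl <;> simp)

theorem self_mem_cen (g : SL(2, F)) : g ∈ Subgroup.centralizer ({g} : Set SL(2, F)) :=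
  Subgroup.mem_centralizer_singleton_iff.2 rfl

theorem cen_eq_of_mem {g x : SL(2, F)} (hg : NonScalar (g : Matrix (Fin 2) (Fin 2) F))
    (hx : x ∈ Subgroup.centralizer ({g} : Set SL(2, F))) (hxn : NonScalar (x : Matrix (Fin 2) (Fin 2) F)) :
    Subgroup.centralizer ({x} : Set SL(2, F)) = Subgroup.centralizer ({g} : Set SL(2, F)) := by
  have hgx : g ∈ Subgroup.centralizer ({x} : Set SL(2, F)) :=
    Subgroup.mem_centralizer_singleton_iff.2 (Subgroup.mem_centralizer_singleton_iff.1 hx).symm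
  refine le_antisymm (fun y hy => ?_) fun y hy => ?_
  · exact Subgroup.mem_centralizer_singleton_iff.2 (cent_comm hxn y hy g hgx)
  · exact Subgroup.mem_centralizer_singleton_iff.2 (cent_comm hg y hy x hx)

theorem cent_cen {g : SL(2, F)} (hg : NonScalar (g : Matrix (Fin 2) (Fin 2) F)) :
    Subgroup.centralizer ((Subgroup.centralizer ({g} : Set SL(2, F))) : Set SL(2, F)) =
      Subgroup.centralizer ({g} : Set SL(2, F)) := by
  refine le_antisymm (fun y hy => ?_) fun y hy => ?_
  · exact Subgroup.mem_centralizer_singleton_iff.2 (Subgroup.mem_centralizer_iff.1 hy g (self_mem_cen g)).symm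
  · exact Subgroup.mem_centralizer_iff.2 fun x hx => cent_comm hg x hx y hy

theorem trace_inv (g : SL(2, F)) :
    ((g⁻¹ : SL(2, F)) : Matrix (Fin 2) (Fin 2) F).trace = (g : Matrix (Fin 2) (Fin 2) F).trace := by
  rw [Matrix.SpecialLinearGroup.coe_inv, Matrix.adjugate_fin_two, Matrix.trace_fin_two, Matrix.trace_fin_two]
  simp [add_comm]

theorem coe_inv_combo (g : SL(2, F)) :
    ((g⁻¹ : SL(2, F)) : Matrix (Fin 2) (Fin 2) F) =
      combo (g : Matrix (Fin 2) (Fin 2) F) ((g : Matrix (Fin 2) (Fin 2) F).trace) (-1) := by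
  rw [Matrix.SpecialLinearGroup.coe_inv, Matrix.adjugate_fin_two]
  ext i j; fin_cases i <;> fin_cases j <;> simp [combo, Matrix.trace_fin_two]

theorem trace_combo (A : Matrix (Fin 2) (Fin 2) F) (a b : F) : (combo A a b).trace = 2 * a + b * A.trace := by
  simp [combo, Matrix.trace_fin_two]; ring

theorem Reg.inv {g : SL(2, F)} (hg : Reg g) : Reg g⁻¹ := by
  refine ⟨fun h => hg.1 ?_, by rw [trace_inv]; exact hg.2⟩
  obtain ⟨h01, h10, h00⟩ := h
  rw [Matrix.SpecialLinearGroup.coe_inv, Matrix.adjugate_fin_two] at h01 h10 h00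
  simp at h01 h10 h00
  exact ⟨h01, h10, h00.symm⟩

theorem Reg.eq_or_inv (h2 : (2 : F) ≠ 0) {g x : SL(2, F)} (hg : Reg g)
    (hx : x ∈ Subgroup.centralizer ({g} : Set SL(2, F)))
    (ht : (x : Matrix (Fin 2) (Fin 2) F).trace = (g : Matrix (Fin 2) (Fin 2) F).trace) : x = g ∨ x = g⁻¹ := by
  obtain ⟨a, b, hab⟩ := exists_combo hg.1 (congrArg (fun z : SL(2, F) => (z : Matrix (Fin 2) (Fin 2) F))
    (Subgroup.mem_centralizer_singleton_iff.1 hx))
  have h1 := x.2
  rw [hab, trace_combo] at ht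
  rw [hab, det_combo, g.2] at h1
  have key : ((g : Matrix (Fin 2) (Fin 2) F).trace * (g : Matrix (Fin 2) (Fin 2) F).trace - 4) * ((1 - b) * (1 + b)) = 0 := by
    linear_combination (4 : F) * h1 - (2 * a + (g : Matrix (Fin 2) (Fin 2) F).trace + b * (g : Matrix (Fin 2) (Fin 2) F).trace) * ht
  rcases mul_eq_zero.1 ((mul_eq_zero.1 key).resolve_left (sub_ne_zero.2 hg.2)) with e | e
  · have hb : b = 1 := (sub_eq_zero.1 e).symm
    subst hb
    have ha : a = 0 := (mul_eq_zero.1 (show (2 : F) * a = 0 by linear_combination ht)).resolve_left h2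
    exact .inl (Subtype.ext (by rw [hab, ha]; simp [combo]))
  · have hb : b = -1 := by linear_combination e
    subst hb
    have ha : a = (g : Matrix (Fin 2) (Fin 2) F).trace :=
      sub_eq_zero.1 ((mul_eq_zero.1 (show (2 : F) * (a - (g : Matrix (Fin 2) (Fin 2) F).trace) = 0 by linear_combination ht)).resolve_left h2)
    exact .inr (Subtype.ext (by rw [hab, ha, coe_inv_combo]))

theorem Reg.ne_inv (h2 : (2 : F) ≠ 0) {g : SL(2, F)} (hg : Reg g) : g⁻¹ ≠ g := fun h =>
  not_nonScalar_pm (eq_pm_one_of_sq h2 (show g * g = 1 by nth_rw 1 [← h]; exact inv_mul_cancel g)) hg.1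

theorem Reg.mem_normalizer_iff (h2 : (2 : F) ≠ 0) {g y : SL(2, F)} (hg : Reg g) :
    y ∈ Subgroup.normalizer ((Subgroup.centralizer ({g} : Set SL(2, F))) : Set SL(2, F)) ↔
      y * g * y⁻¹ = g ∨ y * g * y⁻¹ = g⁻¹ := by
  constructor
  · intro hy
    exact hg.eq_or_inv h2 ((Subgroup.mem_normalizer_iff.1 hy g).1 (self_mem_cen g))
      (trace_eq_of_isConj (isConj_iff.2 ⟨y, rfl⟩)).symm
  · intro hy
    have hc : Subgroup.centralizer ({y * g * y⁻¹} : Set SL(2, F)) = Subgroup.centralizer ({g} : Set SL(2, F)) := by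
      rcases hy with e | e <;> rw [e]
      exact cen_eq_of_mem hg.1 (inv_mem (self_mem_cen g)) hg.inv.1
    refine Subgroup.mem_normalizer_iff.2 fun h => ?_
    conv_rhs => rw [← hc]
    rw [Subgroup.mem_centralizer_singleton_iff, Subgroup.mem_centralizer_singleton_iff]
    constructor
    · intro e
      calc y * h * y⁻¹ * (y * g * y⁻¹) = y * (h * g) * y⁻¹ := by group
        _ = y * (g * h) * y⁻¹ := by rw [e]
        _ = _ := by group
    · intro e
      calc h * g = y⁻¹ * (y * h * y⁻¹ * (y * g * y⁻¹)) * y := by group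
        _ = y⁻¹ * (y * g * y⁻¹ * (y * h * y⁻¹)) * y := by rw [e]
        _ = g * h := by group

theorem mem_cen_iff_conj {g y : SL(2, F)} :
    y ∈ Subgroup.centralizer ({g} : Set SL(2, F)) ↔ y * g * y⁻¹ = g := by
  rw [Subgroup.mem_centralizer_singleton_iff, mul_inv_eq_iff_eq_mul]

variable [Fintype F]

theorem Reg.card_cases {g : SL(2, F)} (hg : Reg g) :
    (Irred (g : Matrix (Fin 2) (Fin 2) F).trace 1 ∧
        Nat.card ↥(Subgroup.centralizer ({g} : Set SL(2, F))) = Fintype.card F + 1) ∨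
      ((∃ r s, r ≠ s ∧ (g : Matrix (Fin 2) (Fin 2) F).trace = r + s ∧ (1 : F) = r * s) ∧
        Nat.card ↥(Subgroup.centralizer ({g} : Set SL(2, F))) = Fintype.card F - 1) := by
  rcases kinds hg.1 with h | h | ⟨⟨r, hr, ht⟩, -⟩
  · exact .inl h
  · exact .inr h
  · exact absurd (show (g : Matrix (Fin 2) (Fin 2) F).trace * (g : Matrix (Fin 2) (Fin 2) F).trace = 4 by
      rw [ht]; linear_combination (4 : F) * hr) hg.2

theorem Reg.exists_inv (h2 : (2 : F) ≠ 0) {g : SL(2, F)} (hg : Reg g) : ∃ y : SL(2, F), y * g * y⁻¹ = g⁻¹ :=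
  isConj_iff.1 (isConj_SL hg.1 hg.inv.1 (trace_inv g).symm (full_SL g hg.1 (.inl fun r hr e => hg.2 (by
    rw [e]; linear_combination (4 : F) * hr))))

theorem Reg.even_card (h2 : (2 : F) ≠ 0) {g : SL(2, F)} (hg : Reg g) :
    Even (Nat.card ↥(Subgroup.centralizer ({g} : Set SL(2, F)))) := by
  have hne : (-1 : SL(2, F)) ≠ 1 := fun h => by
    have := congrArg (fun z : SL(2, F) => (z : Matrix (Fin 2) (Fin 2) F) 0 0) h
    simp at this
    exact h2 (by linear_combination -this)
  have h' := Subgroup.orderOf_dvd_natCard (Subgroup.centralizer ({g} : Set SL(2, F))) (pm_mem_cen (g := g) (x := -1) (.inr rfl))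
  rw [orderOf_eq_prime (p := 2) (show (-1 : SL(2, F)) ^ 2 = 1 by simp) hne] at h'
  exact even_iff_two_dvd.2 h'

theorem Reg.card_normalizer (h2 : (2 : F) ≠ 0) {g : SL(2, F)} (hg : Reg g) :
    Nat.card ↥(Subgroup.normalizer ((Subgroup.centralizer ({g} : Set SL(2, F))) : Set SL(2, F))) =
      2 * Nat.card ↥(Subgroup.centralizer ({g} : Set SL(2, F))) := by
  set C := Subgroup.centralizer ({g} : Set SL(2, F))
  set N := Subgroup.normalizer (C : Set SL(2, F))
  obtain ⟨y, hy⟩ := hg.exists_inv h2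
  have hyN : y ∈ N := (hg.mem_normalizer_iff h2).2 (.inr hy)
  have hidx : (C.subgroupOf N).index = 2 := by
    refine Subgroup.index_eq_two_iff'.2 ⟨⟨y, hyN⟩, fun ⟨b, hb⟩ => ?_⟩
    simp only [Subgroup.mem_subgroupOf, Subgroup.coe_mul, C, mem_cen_iff_conj]
    have hyb : (y * b) * g * (y * b)⁻¹ = y * (b * g * b⁻¹) * y⁻¹ := by group
    rw [hyb]
    rcases (hg.mem_normalizer_iff h2).1 hb with e | e <;> rw [e]
    · refine Or.inr ⟨rfl, ?_⟩
      rw [hy]; exact hg.ne_inv h2
    · refine Or.inl ⟨?_, hg.ne_inv h2⟩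
      calc y * g⁻¹ * y⁻¹ = (y * g * y⁻¹)⁻¹ := by group
        _ = g := by rw [hy, inv_inv]
  rw [← Subgroup.card_mul_index (C.subgroupOf N), hidx,
    Nat.card_congr (Subgroup.subgroupOfEquivOfLe Subgroup.le_normalizer).toEquiv, mul_comm]

theorem Reg.sq_eq (h2 : (2 : F) ≠ 0) {g y : SL(2, F)} (hg : Reg g)
    (hy : y ∈ Subgroup.normalizer ((Subgroup.centralizer ({g} : Set SL(2, F))) : Set SL(2, F)))
    (hyC : y ∉ Subgroup.centralizer ({g} : Set SL(2, F))) : y * y = -1 := by
  have e := ((hg.mem_normalizer_iff h2).1 hy).resolve_left (fun e => hyC (mem_cen_iff_conj.2 e))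
  have hy2 : y * y ∈ Subgroup.centralizer ({g} : Set SL(2, F)) := mem_cen_iff_conj.2 (by
    calc y * y * g * (y * y)⁻¹ = y * (y * g * y⁻¹) * y⁻¹ := by group
      _ = y * g⁻¹ * y⁻¹ := by rw [e]
      _ = (y * g * y⁻¹)⁻¹ := by group
      _ = g := by rw [e, inv_inv])
  by_cases hn : NonScalar ((y * y : SL(2, F)) : Matrix (Fin 2) (Fin 2) F)
  · exact absurd (cen_eq_of_mem hg.1 hy2 hn ▸ Subgroup.mem_centralizer_singleton_iff.2 (mul_assoc y y y).symm) hyC
  · exact (scalar_pm hn).resolve_left fun h => hyC (pm_mem_cen (eq_pm_one_of_sq h2 h))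

theorem Reg.inverts (h2 : (2 : F) ≠ 0) {g y x : SL(2, F)} (hg : Reg g)
    (hy : y ∈ Subgroup.normalizer ((Subgroup.centralizer ({g} : Set SL(2, F))) : Set SL(2, F)))
    (hyC : y ∉ Subgroup.centralizer ({g} : Set SL(2, F)))
    (hx : x ∈ Subgroup.centralizer ({g} : Set SL(2, F))) : y * x * y⁻¹ = x⁻¹ := by
  have h1 := hg.sq_eq h2 hy hyC
  have h3 := hg.sq_eq h2 (mul_mem hy (Subgroup.le_normalizer hx))
    (fun h => hyC ((Subgroup.mul_mem_cancel_right _ hx).1 h))
  have h4 : x * y * x = y := mul_left_cancel (a := y) (by rw [h1, ← h3]; group)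
  calc y * x * y⁻¹ = x⁻¹ * (x * y * x) * y⁻¹ := by group
    _ = x⁻¹ := by rw [h4]; group

theorem Reg.fixed (h2 : (2 : F) ≠ 0) {g y x : SL(2, F)} (hg : Reg g)
    (hy : y ∈ Subgroup.normalizer ((Subgroup.centralizer ({g} : Set SL(2, F))) : Set SL(2, F)))
    (hyC : y ∉ Subgroup.centralizer ({g} : Set SL(2, F)))
    (hx : x ∈ Subgroup.centralizer ({g} : Set SL(2, F))) (hc : y * x = x * y) : x = 1 ∨ x = -1 := by
  refine eq_pm_one_of_sq h2 ?_
  have := hg.inverts h2 hy hyC hx
  rw [hc, mul_inv_cancel_right] at this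
  nth_rw 1 [this]
  exact inv_mul_cancel x

theorem Reg.card_classes (h2 : (2 : F) ≠ 0) {g : SL(2, F)} (hg : Reg g) :
    Nat.card (ConjClasses ↥(Subgroup.normalizer ((Subgroup.centralizer ({g} : Set SL(2, F))) : Set SL(2, F)))) =
      (Nat.card ↥(Subgroup.centralizer ({g} : Set SL(2, F))) + 6) / 2 := by
  classical
  have hN := hg.card_normalizer h2
  set C := Subgroup.centralizer ({g} : Set SL(2, F)) with hC
  set N := Subgroup.normalizer (C : Set SL(2, F)) with hNdef
  set c := Nat.card ↥C with hc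
  have hneg : (-1 : SL(2, F)) ∈ C := pm_mem_cen (.inr rfl)
  have hne : (-1 : SL(2, F)) ≠ 1 := fun h => by
    have := congrArg (fun z : SL(2, F) => (z : Matrix (Fin 2) (Fin 2) F) 0 0) h
    simp at this
    exact h2 (by linear_combination -this)
  have hcount : ∀ x : ↥N, Nat.card {b : ↥N // Commute x b} =
      (if (x : SL(2, F)) ∈ C then c else 4) + (if (x : SL(2, F)) = 1 ∨ (x : SL(2, F)) = -1 then c else 0) := by
    rintro ⟨x, hxN⟩
    by_cases hpm : x = 1 ∨ x = -1
    · rw [if_pos hpm, if_pos (pm_mem_cen hpm), ← two_mul, ← hN]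
      exact Nat.card_congr (Equiv.subtypeUnivEquiv fun b => Subtype.ext (by
        rcases hpm with rfl | rfl <;> simp))
    rw [if_neg hpm, add_zero]
    by_cases hxC : x ∈ C
    · rw [if_pos hxC]
      have hxn : NonScalar (x : Matrix (Fin 2) (Fin 2) F) := nonScalar_of_ne (fun h => hpm (.inl h)) (fun h => hpm (.inr h))
      refine (Nat.card_congr (Equiv.subtypeEquivRight (q := fun b : ↥N => (b : SL(2, F)) ∈ C) fun b => ?_)).trans
        (Nat.card_congr (Subgroup.subgroupOfEquivOfLe Subgroup.le_normalizer).toEquiv)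
      rw [hC, ← cen_eq_of_mem hg.1 hxC hxn, Subgroup.mem_centralizer_singleton_iff, commute_iff_eq, Subtype.ext_iff]
      exact eq_comm
    · rw [if_neg hxC]
      have hS : ∀ b : SL(2, F), (b ∈ N ∧ x * b = b * x) ↔ b ∈ ({1, -1, x, -x} : Finset SL(2, F)) := by
        intro b
        constructor
        · rintro ⟨hb, hcm⟩
          simp only [Finset.mem_insert, Finset.mem_singleton]
          by_cases hbC : b ∈ C
          · rcases hg.fixed h2 hxN hxC hbC hcm with e | e <;> simp [e]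
          · have hmem : x * b ∈ C := by
              have e1 := ((hg.mem_normalizer_iff h2).1 hxN).resolve_left (fun e => hxC (mem_cen_iff_conj.2 e))
              have e2 := ((hg.mem_normalizer_iff h2).1 hb).resolve_left (fun e => hbC (mem_cen_iff_conj.2 e))
              refine mem_cen_iff_conj.2 ?_
              calc x * b * g * (x * b)⁻¹ = x * (b * g * b⁻¹) * x⁻¹ := by group
                _ = (x * g * x⁻¹)⁻¹ := by rw [e2]; group
                _ = g := by rw [e1, inv_inv]
            have hinv : x⁻¹ = -x := inv_eq_of_mul_eq_one_right (by rw [mul_neg, hg.sq_eq h2 hxN hxC, neg_neg])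
            rcases hg.fixed h2 hxN hxC hmem (by rw [mul_assoc x b x, ← hcm]) with e | e
            · have : b = x⁻¹ := (inv_eq_of_mul_eq_one_right e).symm
              rw [this, hinv]; simp
            · have : b = x⁻¹ * -1 := eq_inv_mul_of_mul_eq e
              rw [this, hinv]; simp
        · intro hb
          simp only [Finset.mem_insert, Finset.mem_singleton] at hb
          rcases hb with rfl | rfl | rfl | rfl
          · exact ⟨one_mem _, by simp⟩
          · exact ⟨Subgroup.le_normalizer hneg, by simp⟩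
          · exact ⟨hxN, rfl⟩
          · exact ⟨by rw [← neg_one_mul]; exact mul_mem (Subgroup.le_normalizer hneg) hxN, by simp⟩
      rw [Nat.card_congr ((Equiv.subtypeEquivRight (q := fun b : ↥N => (b : SL(2, F)) ∈ ({1, -1, x, -x} : Finset SL(2, F)))
        (fun b => by rw [← hS b, commute_iff_eq, Subtype.ext_iff]; exact (and_iff_right b.2).symm)).trans
        (Equiv.subtypeSubtypeEquivSubtype fun {b} hb => ((hS b).2 hb).1)), Nat.card_eq_finsetCard]
      have hx1 : x ≠ 1 := fun h => hpm (.inl h)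
      have hxm : x ≠ -1 := fun h => hpm (.inr h)
      have hxx : x ≠ -x := fun h => by
        rw [← neg_one_mul, ← mul_inv_eq_iff_eq_mul, mul_inv_cancel] at h
        exact hne h.symm
      rw [Finset.card_insert_of_notMem, Finset.card_insert_of_notMem, Finset.card_insert_of_notMem,
        Finset.card_singleton]
      · simp [hxx]
      · simp only [Finset.mem_insert, Finset.mem_singleton, not_or]
        exact ⟨hxm.symm, fun h => hx1 (neg_injective h).symm⟩
      · simp only [Finset.mem_insert, Finset.mem_singleton, not_or]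
        exact ⟨hne.symm, hx1.symm, fun h => hxm (neg_eq_iff_eq_neg.1 h.symm)⟩
  have hsum := card_comm_eq_card_conjClasses_mul_card ↥N
  rw [Nat.card_congr (Equiv.subtypeProdEquivSigmaSubtype fun a b : ↥N => Commute a b), Nat.card_sigma,
    Finset.sum_congr rfl (fun x _ => hcount x), Finset.sum_add_distrib, Finset.sum_ite, Finset.sum_ite] at hsum
  simp only [Finset.sum_const, smul_eq_mul, mul_zero, add_zero] at hsum
  have hf1 : (Finset.univ.filter fun x : ↥N => (x : SL(2, F)) ∈ C).card = c := by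
    rw [← Fintype.card_subtype, ← Nat.card_eq_fintype_card]
    exact Nat.card_congr (Subgroup.subgroupOfEquivOfLe Subgroup.le_normalizer).toEquiv
  have hf2 : (Finset.univ.filter fun x : ↥N => (x : SL(2, F)) = 1 ∨ (x : SL(2, F)) = -1).card = 2 := by
    rw [Finset.card_eq_two]
    refine ⟨1, ⟨-1, Subgroup.le_normalizer hneg⟩, fun h => hne (congrArg Subtype.val h).symm, ?_⟩
    ext x
    simp only [Finset.mem_filter, Finset.mem_univ, true_and, Finset.mem_insert, Finset.mem_singleton,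
      Subtype.ext_iff, Subgroup.coe_one]
  have hf3 : (Finset.univ.filter fun x : ↥N => ¬ (x : SL(2, F)) ∈ C).card = c := by
    have := Finset.card_filter_add_card_filter_not (s := (Finset.univ : Finset ↥N)) (fun x : ↥N => (x : SL(2, F)) ∈ C)
    rw [hf1, Finset.card_univ, ← Nat.card_eq_fintype_card, hN] at this
    omega
  rw [hf1, hf2, hf3, hN] at hsum
  have hc0 : 0 < c := Nat.card_pos
  have : Nat.card (ConjClasses ↥N) * 2 = c + 6 :=
    Nat.eq_of_mul_eq_mul_right hc0 (by rw [mul_assoc, ← hsum]; ring)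
  omega

theorem Reg.cyclic {g : SL(2, F)} (hg : Reg g) : IsCyclic ↥(Subgroup.centralizer ({g} : Set SL(2, F))) := by
  obtain ⟨p, hp⟩ := CharP.exists F
  haveI : Fact p.Prime := ⟨CharP.char_is_prime F p⟩
  refine Cfsg.Lib.Classical.SLTwoTori.isCyclic_of_comm p _ (cent_comm hg.1) fun a ha => ?_
  refine Nat.Coprime.coprime_dvd_left (Subgroup.orderOf_dvd_natCard _ ha) ?_
  obtain ⟨k, -, hk⟩ := FiniteField.card F p
  rw [Nat.coprime_comm, (Fact.out : p.Prime).coprime_iff_not_dvd]
  intro h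
  have hpq : p ∣ Fintype.card F := hk ▸ dvd_pow_self p k.pos.ne'
  rcases hg.card_cases with ⟨-, e⟩ | ⟨-, e⟩ <;> rw [e] at h
  · exact (Fact.out : p.Prime).not_dvd_one ((Nat.dvd_add_right hpq).1 h)
  · have := Nat.dvd_sub hpq h
    rw [Nat.sub_sub_self Fintype.card_pos] at this
    exact (Fact.out : p.Prime).not_dvd_one this

theorem isSquare_disc_iff (h2 : (2 : F) ≠ 0) (t : F) : IsSquare (t * t - 4) ↔ ¬ Irred t 1 := by
  constructor
  · rintro ⟨s, hs⟩ h
    exact h ((t + s) / 2) (by field_simp; linear_combination -hs)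
  · intro h
    simp only [Irred, not_forall, not_not] at h
    obtain ⟨x, hx⟩ := h
    exact ⟨2 * x - t, by linear_combination (-4 : F) * hx⟩

theorem Reg.exists_conj_mem (h2 : (2 : F) ≠ 0) {g h : SL(2, F)} (hg : Reg g) (hh : Reg h)
    (hi : Irred (g : Matrix (Fin 2) (Fin 2) F).trace 1 ↔ Irred (h : Matrix (Fin 2) (Fin 2) F).trace 1) :
    ∃ y : SL(2, F), y * h * y⁻¹ ∈ Subgroup.centralizer ({g} : Set SL(2, F)) := by
  classical
  set t := (g : Matrix (Fin 2) (Fin 2) F).trace
  set u := (h : Matrix (Fin 2) (Fin 2) F).trace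
  have ht : t * t - 4 ≠ 0 := sub_ne_zero.2 hg.2
  have hu : u * u - 4 ≠ 0 := sub_ne_zero.2 hh.2
  have hsq : IsSquare ((u * u - 4) / (t * t - 4)) := by
    have e : (u * u - 4) / (t * t - 4) = (u * u - 4) * (t * t - 4) * ((t * t - 4)⁻¹ * (t * t - 4)⁻¹) := by field_simp
    rw [e]
    refine IsSquare.mul ?_ ⟨_, rfl⟩
    by_cases hs : IsSquare (t * t - 4)
    · exact IsSquare.mul (not_not.1 fun h' => by
        rw [isSquare_disc_iff h2] at hs h'; exact h' (mt hi.2 hs)) hs
    · have hsu : ¬ IsSquare (u * u - 4) := fun h' => by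
        rw [isSquare_disc_iff h2] at hs h'; exact hs (mt hi.1 h')
      have h1 := (quadraticChar_neg_one_iff_not_isSquare (F := F)).2 hs
      have h3 := (quadraticChar_neg_one_iff_not_isSquare (F := F)).2 hsu
      refine (quadraticChar_one_iff_isSquare (mul_ne_zero hu ht)).1 ?_
      rw [map_mul, h1, h3]; norm_num
  obtain ⟨b, hb⟩ := hsq
  rw [div_eq_iff ht] at hb
  have hb0 : b ≠ 0 := by rintro rfl; simp at hb; exact hu hb
  set a := (u - b * t) / 2 with hadef
  have h2a : 2 * a = u - b * t := by rw [hadef]; field_simp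
  have hdet : (combo (g : Matrix (Fin 2) (Fin 2) F) a b).det = 1 := by
    rw [det_combo, g.2]
    refine mul_left_cancel₀ (show (4 : F) ≠ 0 by rw [show (4 : F) = 2 * 2 by norm_num]; exact mul_ne_zero h2 h2) ?_
    linear_combination (2 * a + u + b * t) * h2a + hb
  have hn : NonScalar (combo (g : Matrix (Fin 2) (Fin 2) F) a b) := by
    intro hs
    have e := eq_smul_one (not_not.2 hs)
    have : combo (g : Matrix (Fin 2) (Fin 2) F) a b = combo (g : Matrix (Fin 2) (Fin 2) F) ((combo (g : Matrix (Fin 2) (Fin 2) F) a b) 0 0) 0 := by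
      conv_lhs => rw [e]
      simp [combo]
    exact hb0 (combo_inj hg.1 this).2
  let x : SL(2, F) := ⟨_, hdet⟩
  have hx : x ∈ Subgroup.centralizer ({g} : Set SL(2, F)) :=
    Subgroup.mem_centralizer_singleton_iff.2 (Subtype.ext (combo_comm _ _ _))
  have htx : u = (x : Matrix (Fin 2) (Fin 2) F).trace := by
    show u = (combo (g : Matrix (Fin 2) (Fin 2) F) a b).trace
    rw [trace_combo]; linear_combination -h2a
  obtain ⟨y, hy⟩ := isConj_iff.1 (isConj_SL hh.1 (h := x) hn htx
    (full_SL h hh.1 (.inl fun r hr e => hh.2 (by rw [e]; linear_combination (4 : F) * hr))))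
  exact ⟨y, hy ▸ hx⟩

theorem irred_of_no_eigen {g : SL(2, F)}
    (h : ∀ (c : F) (v : Fin 2 → F), v ≠ 0 → (g : Matrix (Fin 2) (Fin 2) F).mulVec v ≠ c • v) :
    NonScalar (g : Matrix (Fin 2) (Fin 2) F) ∧ Irred (g : Matrix (Fin 2) (Fin 2) F).trace 1 := by
  refine ⟨fun hs => ?_, fun x hx => ?_⟩
  · refine h ((g : Matrix (Fin 2) (Fin 2) F) 0 0) ![1, 0] (by simp) ?_
    conv_lhs => rw [eq_smul_one (not_not.2 hs)]
    rw [Matrix.smul_mulVec, Matrix.one_mulVec]
  · have hd : ((g : Matrix (Fin 2) (Fin 2) F) - x • 1).det = 0 := by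
      have := g.2
      rw [Matrix.det_fin_two] at this ⊢
      rw [Matrix.trace_fin_two] at hx
      simp
      linear_combination hx + this
    obtain ⟨v, hv, hv0⟩ := Matrix.exists_mulVec_eq_zero_iff.2 hd
    rw [Matrix.sub_mulVec, Matrix.smul_mulVec, Matrix.one_mulVec, sub_eq_zero] at hv0
    exact h x v hv hv0

theorem reg_of_irred (h2 : (2 : F) ≠ 0) {g : SL(2, F)}
    (h : NonScalar (g : Matrix (Fin 2) (Fin 2) F) ∧ Irred (g : Matrix (Fin 2) (Fin 2) F).trace 1) : Reg g :=
  ⟨h.1, fun e => (isSquare_disc_iff h2 _).1 ⟨0, by rw [e]; ring⟩ h.2⟩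

theorem exists_reg_irred (h2 : (2 : F) ≠ 0) :
    ∃ g : SL(2, F), Reg g ∧ Irred (g : Matrix (Fin 2) (Fin 2) F).trace 1 := by
  obtain ⟨t, ht⟩ := exists_irred (F := F)
  have htr : ((compSL t : SL(2, F)) : Matrix (Fin 2) (Fin 2) F).trace = t := trace_comp t 1
  exact ⟨compSL t, reg_of_irred h2 ⟨nonScalar_comp t 1, by rw [htr]; exact ht⟩, by rw [htr]; exact ht⟩

end Cfsg.Lib.GLTwo
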