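import Cfsg.Agent.Known.SLTwo.SL

/-! Elements of order the characteristic in SL₂. -/

set_option autoImplicit false
set_option linter.unusedSectionVars false

open Matrix
open scoped MatrixGroups

namespace Cfsg.Lib.GLTwo

variable {F : Type*} [Field F]

theorem mem_center_iff (z : SL(2, F)) :
    z ∈ Subgroup.center SL(2, F) ↔ ¬ NonScalar (z : Matrix (Fin 2) (Fin 2) F) := by
  constructor
  · intro h
    obtain ⟨r, -, hr⟩ := Matrix.SpecialLinearGroup.mem_center_iff.1 h
    rw [← hr, Matrix.scalar_apply]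
    exact not_not.2 ⟨by simp, by simp, by simp⟩
  · intro h
    obtain ⟨r, rfl⟩ := eq_upper_of_scalar h
    exact Subgroup.mem_center_iff.2 fun g => upper_zero_central r g

theorem one_mem_center : ¬ NonScalar ((1 : SL(2, F)) : Matrix (Fin 2) (Fin 2) F) :=
  (mem_center_iff 1).1 (one_mem _)

variable (p : ℕ) [Fact p.Prime] [CharP F p]

theorem pow_char_of_trace {g : SL(2, F)} {r : F} (hr : r * r = 1)
    (ht : (g : Matrix (Fin 2) (Fin 2) F).trace = r + r) :
    ((g ^ p : SL(2, F)) : Matrix (Fin 2) (Fin 2) F) = r ^ p • (1 : Matrix (Fin 2) (Fin 2) F) := by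
  haveI : CharP (Matrix (Fin 2) (Fin 2) F) p := Matrix.charP p
  set A := (g : Matrix (Fin 2) (Fin 2) F)
  set N := A - r • (1 : Matrix (Fin 2) (Fin 2) F) with hN
  have hd : A.det = 1 := g.2
  rw [Matrix.trace_fin_two] at ht
  rw [Matrix.det_fin_two] at hd
  have hN2 : N * N = 0 := by
    ext i j; fin_cases i <;> fin_cases j <;> simp [hN, Matrix.mul_apply, Fin.sum_univ_two]
    · linear_combination (A 0 0) * ht - hd + hr
    · linear_combination (A 0 1) * ht
    · linear_combination (A 1 0) * ht
    · linear_combination (A 1 1) * ht - hd + hr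
  have hNp : N ^ p = 0 := by
    obtain ⟨k, hk⟩ : ∃ k, p = 2 + k := ⟨p - 2, by have := (Fact.out : p.Prime).two_le; omega⟩
    rw [hk, pow_add, pow_two, hN2, zero_mul]
  rw [Matrix.SpecialLinearGroup.coe_pow]
  change A ^ p = _
  rw [show A = r • (1 : Matrix (Fin 2) (Fin 2) F) + N by rw [hN]; abel,
    add_pow_char_of_commute (p := p) ((Commute.one_left N).smul_left r), hNp, add_zero, smul_pow, one_pow]

theorem trace_of_pow_char {g : SL(2, F)} {e : F} (he : e ^ p = e)
    (hg : ((g ^ p : SL(2, F)) : Matrix (Fin 2) (Fin 2) F) = e • (1 : Matrix (Fin 2) (Fin 2) F)) :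
    (g : Matrix (Fin 2) (Fin 2) F).trace = e + e := by
  haveI : CharP (Matrix (Fin 2) (Fin 2) F) p := Matrix.charP p
  have hnil : IsNilpotent ((g : Matrix (Fin 2) (Fin 2) F) - e • (1 : Matrix (Fin 2) (Fin 2) F)) := by
    refine ⟨p, ?_⟩
    rw [sub_pow_char_of_commute (p := p) ((Commute.one_right _).smul_right e), ← Matrix.SpecialLinearGroup.coe_pow, hg,
      smul_pow, one_pow, he, sub_self]
  have := (Matrix.isNilpotent_trace_of_isNilpotent hnil).eq_zero
  simp [Matrix.trace_fin_two] at this
  rw [Matrix.trace_fin_two]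
  linear_combination this

theorem orderOf_eq_char_iff (g : SL(2, F)) :
    orderOf g = p ↔ NonScalar (g : Matrix (Fin 2) (Fin 2) F) ∧ (g : Matrix (Fin 2) (Fin 2) F).trace = 1 + 1 := by
  have hp : p.Prime := Fact.out
  constructor
  · intro h
    have ht : (g : Matrix (Fin 2) (Fin 2) F).trace = 1 + 1 :=
      trace_of_pow_char p (one_pow p) (by rw [← h, pow_orderOf_eq_one, one_smul]; rfl)
    refine ⟨fun hns => ?_, ht⟩
    obtain ⟨h01, h10, h11⟩ := hns
    obtain ⟨r, hr⟩ := eq_upper_of_scalar (g := g) (not_not.2 ⟨h01, h10, h11⟩)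
    have hg1 : g = 1 := by
      subst hr
      have hsq : (r : F) = 1 := by
        rw [trace_upper] at ht
        by_cases h2 : (2 : F) = 0
        · rcases mul_self_eq_one_iff.1 r.2 with e | e
          · exact e
          · rw [e]; linear_combination -h2
        · exact mul_left_cancel₀ h2 (by linear_combination ht)
      refine Subtype.ext ?_
      simp only [coe_upper, Matrix.SpecialLinearGroup.coe_one]
      ext i j; fin_cases i <;> fin_cases j <;> simp [hsq]
    rw [hg1, orderOf_one] at h
    exact hp.one_lt.ne h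
  · rintro ⟨hn, ht⟩
    refine orderOf_eq_prime (Subtype.ext ?_) fun h => ?_
    · rw [pow_char_of_trace p (mul_one 1) ht, one_pow, one_smul]; rfl
    · exact one_mem_center (h ▸ hn)

end Cfsg.Lib.GLTwo
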