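import Cfsg.Agent.Known.SLTwo.Torus

/-! The element orders of PSL₂. -/

set_option autoImplicit false
set_option linter.unusedSectionVars false

open Matrix
open scoped MatrixGroups

namespace Cfsg.Lib.GLTwo

variable {F : Type*} [Field F] [Fintype F] (p : ℕ) [Fact p.Prime] [CharP F p]

theorem psl_spectrum (m : ℕ) :
    m ∈ Set.range (orderOf : Matrix.ProjectiveSpecialLinearGroup (Fin 2) F → ℕ) ↔
      m ∣ p ∨ m ∣ (Fintype.card F - 1) / Nat.gcd 2 (Fintype.card F - 1) ∨
        m ∣ (Fintype.card F + 1) / Nat.gcd 2 (Fintype.card F - 1) := by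
  have hq := Fintype.one_lt_card (α := F)
  set q := Fintype.card F with hq'
  set d := Nat.gcd 2 (q - 1) with hd
  have hd1 : d ∣ q - 1 := Nat.gcd_dvd_right _ _
  have hd2 : d ∣ q + 1 := by
    have := Nat.dvd_add hd1 (Nat.gcd_dvd_left 2 (q - 1))
    rwa [show q - 1 + 2 = q + 1 by omega] at this
  have hd0 : 0 < d := Nat.gcd_pos_of_pos_left _ two_pos
  have hcop : p.Coprime d := by
    rw [(Fact.out : p.Prime).coprime_iff_not_dvd]
    intro h
    obtain ⟨k, -, hk⟩ := FiniteField.card F p
    have h1 : p ∣ q - 1 := h.trans hd1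
    have h2 : p ∣ q := by rw [hq', hk]; exact dvd_pow_self p k.pos.ne'
    have h3 := Nat.dvd_sub h2 h1
    rw [show q - (q - 1) = 1 by omega] at h3
    exact (Fact.out : p.Prime).not_dvd_one h3
  have hdiv : ∀ (s : SL(2, F)) (N : ℕ), d ∣ N → s ^ N = 1 → orderOf (prj s) ∣ N / d := by
    intro s N hN hs
    rw [orderOf_prj]
    exact orderOf_dvd_of_pow_eq_one (by rw [← pow_mul, Nat.mul_div_cancel' hN, hs])
  constructor
  · rintro ⟨x, rfl⟩
    obtain ⟨s, rfl⟩ := QuotientGroup.mk'_surjective _ x
    by_cases hns : NonScalar (s : Matrix (Fin 2) (Fin 2) F)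
    · have hpow := pow_card_cent s
      rcases kinds hns with ⟨-, hc⟩ | ⟨-, hc⟩ | ⟨⟨r, hr, ht⟩, -⟩
      · exact Or.inr (Or.inr (hdiv s _ hd2 (by rwa [hc] at hpow)))
      · exact Or.inr (Or.inl (hdiv s _ hd1 (by rwa [hc] at hpow)))
      · left
        show orderOf (prj s) ∣ p
        rcases mul_self_eq_one_iff.1 hr with rfl | rfl
        · have hs : orderOf s = p := (orderOf_eq_char_iff p s).2 ⟨hns, ht⟩
          exact (orderOf_map_dvd _ s).trans hs.dvd
        · have hs : orderOf (-s) = p := by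
            refine (orderOf_eq_char_iff p (-s)).2 ⟨?_, ?_⟩
            · simpa [NonScalar, Matrix.SpecialLinearGroup.coe_neg] using hns
            · rw [Matrix.SpecialLinearGroup.coe_neg, Matrix.trace_neg, ht]; ring
          have : prj s = prj (-s) := by
            have h : prj ((-1 : SL(2, F))) = 1 := (prj_eq_one_iff _).2 (Or.inr rfl)
            rw [show -s = -1 * s by simp, map_mul, h, one_mul]
          rw [this]
          exact (orderOf_map_dvd _ _).trans hs.dvd
    · left
      show orderOf (prj s) ∣ p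
      have hc : s ∈ Subgroup.center SL(2, F) := (mem_center_iff s).2 hns
      rw [(prj_eq_one_iff s).2 ((mem_center_iff_pm s).1 hc), orderOf_one]
      exact one_dvd _
  · intro h
    have key : ∀ (x : Matrix.ProjectiveSpecialLinearGroup (Fin 2) F) (N : ℕ), orderOf x = N → m ∣ N →
        m ∈ Set.range (orderOf : Matrix.ProjectiveSpecialLinearGroup (Fin 2) F → ℕ) := by
      intro x N hx hm
      subst hx
      exact ⟨x ^ (orderOf x / m), by
        rw [orderOf_pow, Nat.gcd_eq_right (Nat.div_dvd_of_dvd hm), Nat.div_div_self hm (orderOf_pos x).ne']⟩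
    have hprj : ∀ (s : SL(2, F)) (N : ℕ), orderOf s = N → d ∣ N → orderOf (prj s) = N / d := by
      intro s N hs hN
      rw [orderOf_prj, orderOf_pow, hs, Nat.gcd_eq_right hN]
    rcases h with h | h | h
    · let u : SL(2, F) := ⟨!![(1 : F), 1; 0, 1], by simp [Matrix.det_fin_two]⟩
      have hu : orderOf u = p := (orderOf_eq_char_iff p u).2 ⟨by simp [u, NonScalar], by simp [u, Matrix.trace_fin_two]⟩
      refine key (prj u) p ?_ h
      rw [orderOf_prj, orderOf_pow, hu, hcop.gcd_eq_one, Nat.div_one]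
    · obtain ⟨s, hs⟩ := exists_orderOf_sub_one (F := F)
      exact key (prj s) _ (hprj s _ hs hd1) h
    · obtain ⟨s, hs⟩ := exists_orderOf_add_one (F := F)
      exact key (prj s) _ (hprj s _ hs hd2) h

end Cfsg.Lib.GLTwo
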