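import Cfsg.Agent.Known.SLTwo.Torus

/-! Products of conjugacy classes in PSL₂. -/

set_option autoImplicit false
set_option linter.unusedSectionVars false

open Matrix
open scoped MatrixGroups

namespace Cfsg.Lib.GLTwo

variable {F : Type*} [Field F] [Fintype F]

theorem form_surjective (T : F) (hT : T * T ≠ 4) (v : F) : ∃ a b : F, a * a + T * a * b + b * b = v := by
  rcases eq_or_ne v 0 with rfl | hv
  · exact ⟨0, 0, by simp⟩
  set g := Matrix.SpecialLinearGroup.toGL (compSL T) with hgdef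
  have hg : NonScalar (g : Matrix (Fin 2) (Fin 2) F) := nonScalar_comp T 1
  have hd : (g : Matrix (Fin 2) (Fin 2) F).det = 1 := det_comp T 1
  have ht : (g : Matrix (Fin 2) (Fin 2) F).trace = T := trace_comp T 1
  obtain ⟨x, hx, hxd⟩ := full_SL (compSL T) hg (.inl fun r hr e => hT (by
    change (g : Matrix (Fin 2) (Fin 2) F).trace = r + r at e
    rw [← ht, e]; linear_combination 4 * hr)) v hv
  obtain ⟨a, b, hab⟩ := exists_combo hg (congrArg Units.val (Subgroup.mem_centralizer_singleton_iff.1 hx))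
  rw [hab, det_combo, ht, hd] at hxd
  exact ⟨a, b, by linear_combination hxd⟩

/-- A matrix of trace `t` in SL₂ whose left quotient of `comp T 1` also has trace `t`. -/
theorem exists_point {t T : F}
    (h : (T * T ≠ 4) ∨ (T = 2 ∧ ∃ r, r * r - t * r + 1 = 0) ∨ (T = -2 ∧ t ≠ 0 ∧ (2 : F) ≠ 0)) :
    ∃ a b : F, a * (t - a) - b * (t + b - a * T) = 1 := by
  rcases h with h | ⟨rfl, r, hr⟩ | ⟨rfl, ht, h2⟩
  · have hne : 2 + T ≠ 0 := fun e => h (by linear_combination (T - 2) * e)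
    set α := t / (2 + T)
    have hα : α * (2 + T) = t := div_mul_cancel₀ t hne
    obtain ⟨x, y, hxy⟩ := form_surjective (-T) (by rwa [neg_mul_neg]) (t * α + t * α - (α * α + T * α * α + α * α) - 1)
    refine ⟨α + x, -α + y, ?_⟩
    linear_combination -hxy + (y - x) * hα
  · exact ⟨r, 0, by linear_combination -hr⟩
  · refine ⟨1 / (2 * t), -(1 / (2 * t)), ?_⟩
    field_simp
    ring

theorem exists_factor {t : F} (G : SL(2, F)) (hG : NonScalar (G : Matrix (Fin 2) (Fin 2) F))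
    (h : ((G : Matrix (Fin 2) (Fin 2) F).trace * (G : Matrix (Fin 2) (Fin 2) F).trace ≠ 4) ∨
      ((G : Matrix (Fin 2) (Fin 2) F).trace = 2 ∧ ∃ r, r * r - t * r + 1 = 0) ∨
      ((G : Matrix (Fin 2) (Fin 2) F).trace = -2 ∧ t ≠ 0 ∧ (2 : F) ≠ 0)) :
    ∃ A : SL(2, F), (A : Matrix (Fin 2) (Fin 2) F).trace = t ∧
      ((A⁻¹ * G : SL(2, F)) : Matrix (Fin 2) (Fin 2) F).trace = t := by
  set T := (G : Matrix (Fin 2) (Fin 2) F).trace with hT
  obtain ⟨a, b, hab⟩ := exists_point h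
  let A0 : SL(2, F) := ⟨!![a, b; t + b - a * T, t - a], by rw [Matrix.det_fin_two]; simpa using hab⟩
  obtain ⟨P, hP⟩ := exists_conj (g := Matrix.SpecialLinearGroup.toGL (compSL T)) (h := Matrix.SpecialLinearGroup.toGL G)
    (nonScalar_comp T 1) hG (trace_comp T 1) ((det_comp T 1).trans G.2.symm)
  let A : SL(2, F) := ⟨((P * Matrix.SpecialLinearGroup.toGL A0 * P⁻¹ : GL (Fin 2) F) : Matrix (Fin 2) (Fin 2) F), by
    exact congrArg Units.val (show Matrix.GeneralLinearGroup.det (P * Matrix.SpecialLinearGroup.toGL A0 * P⁻¹) = 1 by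
      rw [map_mul, map_mul, map_inv, mul_right_comm, mul_inv_cancel, one_mul]
      exact Units.ext A0.2)⟩
  have hA : Matrix.SpecialLinearGroup.toGL A = P * Matrix.SpecialLinearGroup.toGL A0 * P⁻¹ := Units.ext rfl
  have tr : ∀ x : GL (Fin 2) F, ((P * x * P⁻¹ : GL (Fin 2) F) : Matrix (Fin 2) (Fin 2) F).trace = (x : Matrix (Fin 2) (Fin 2) F).trace := fun x => by
    rw [Units.val_mul, Matrix.trace_mul_comm, ← Units.val_mul, ← mul_assoc, inv_mul_cancel, one_mul]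
  refine ⟨A, ?_, ?_⟩
  · show ((Matrix.SpecialLinearGroup.toGL A : GL (Fin 2) F) : Matrix (Fin 2) (Fin 2) F).trace = t
    rw [hA, tr]
    change (!![a, b; t + b - a * T, t - a]).trace = t
    simp [Matrix.trace_fin_two]
  · show ((Matrix.SpecialLinearGroup.toGL (A⁻¹ * G) : GL (Fin 2) F) : Matrix (Fin 2) (Fin 2) F).trace = t
    rw [map_mul, map_inv, hA, ← hP, show (P * Matrix.SpecialLinearGroup.toGL A0 * P⁻¹)⁻¹ * (P * Matrix.SpecialLinearGroup.toGL (compSL T) * P⁻¹) =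
      P * (Matrix.SpecialLinearGroup.toGL (A0⁻¹ * compSL T)) * P⁻¹ by rw [map_mul, map_inv]; group, tr]
    change ((A0⁻¹ * compSL T : SL(2, F)) : Matrix (Fin 2) (Fin 2) F).trace = t
    rw [Matrix.SpecialLinearGroup.coe_mul, Matrix.SpecialLinearGroup.coe_inv, Matrix.adjugate_fin_two]
    simp [A0, compSL, comp, Matrix.trace_fin_two, Matrix.mul_apply, Fin.sum_univ_two]

theorem covers {s : SL(2, F)} (hs : NonScalar (s : Matrix (Fin 2) (Fin 2) F))
    (ht0 : (s : Matrix (Fin 2) (Fin 2) F).trace ≠ 0)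
    (ht4 : ∀ r : F, r * r = 1 → (s : Matrix (Fin 2) (Fin 2) F).trace ≠ r + r)
    (hsplit : (2 : F) = 0 → ∃ r, r * r - (s : Matrix (Fin 2) (Fin 2) F).trace * r + 1 = 0)
    (g : Matrix.ProjectiveSpecialLinearGroup (Fin 2) F) (hg : g ≠ 1) :
    ∃ u v : Matrix.ProjectiveSpecialLinearGroup (Fin 2) F, g = (u * prj s * u⁻¹) * (v * prj s * v⁻¹) := by
  set t := (s : Matrix (Fin 2) (Fin 2) F).trace with ht
  obtain ⟨G, rfl⟩ := QuotientGroup.mk'_surjective (Subgroup.center SL(2, F)) g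
  have hG : ∃ G' : SL(2, F), prj G' = prj G ∧ NonScalar (G' : Matrix (Fin 2) (Fin 2) F) ∧
      ((G' : Matrix (Fin 2) (Fin 2) F).trace * (G' : Matrix (Fin 2) (Fin 2) F).trace ≠ 4 ∨
      ((G' : Matrix (Fin 2) (Fin 2) F).trace = 2 ∧ ∃ r, r * r - t * r + 1 = 0) ∨
      ((G' : Matrix (Fin 2) (Fin 2) F).trace = -2 ∧ t ≠ 0 ∧ (2 : F) ≠ 0)) := by
    have hns : NonScalar (G : Matrix (Fin 2) (Fin 2) F) := by
      by_contra h
      exact hg ((QuotientGroup.eq_one_iff G).2 ((mem_center_iff G).2 h))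
    by_cases h4 : (G : Matrix (Fin 2) (Fin 2) F).trace * (G : Matrix (Fin 2) (Fin 2) F).trace = 4
    swap; · exact ⟨G, rfl, hns, .inl h4⟩
    by_cases h2 : (2 : F) = 0
    · refine ⟨G, rfl, hns, .inr (.inl ⟨?_, hsplit h2⟩)⟩
      rw [h2]
      exact mul_self_eq_zero.1 (by rw [h4]; linear_combination 2 * h2)
    rcases mul_eq_zero.1 (show ((G : Matrix (Fin 2) (Fin 2) F).trace + 2) * ((G : Matrix (Fin 2) (Fin 2) F).trace - 2) = 0 by
      linear_combination h4) with e | e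
    · exact ⟨G, rfl, hns, .inr (.inr ⟨eq_neg_of_add_eq_zero_left e, ht0, h2⟩)⟩
    · refine ⟨-G, ?_, fun hh => hns ?_, .inr (.inr ⟨?_, ht0, h2⟩)⟩
      · rw [← neg_one_mul G, map_mul, (prj_eq_one_iff _).2 (.inr rfl), one_mul]
      · obtain ⟨a, b, c⟩ := hh; simp at a b c; exact ⟨a, b, c⟩
      · rw [Matrix.SpecialLinearGroup.coe_neg, Matrix.trace_neg, sub_eq_zero.1 e]
  obtain ⟨G', hprj, hns, hcond⟩ := hG
  obtain ⟨A, hA, hB⟩ := exists_factor (t := t) G' hns hcond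
  have conj : ∀ X : SL(2, F), (X : Matrix (Fin 2) (Fin 2) F).trace = t → ∃ u, u * s * u⁻¹ = X := by
    intro X hX
    have hXn : NonScalar (X : Matrix (Fin 2) (Fin 2) F) := by
      by_contra h
      obtain ⟨r, rfl⟩ := eq_upper_of_scalar h
      rw [trace_upper] at hX
      exact ht4 r r.2 hX.symm
    exact isConj_iff.1 (isConj_SL hs hXn hX.symm (full_SL s hs (.inl ht4)))
  obtain ⟨u, hu⟩ := conj A hA
  obtain ⟨v, hv⟩ := conj _ hB
  refine ⟨prj u, prj v, ?_⟩
  rw [← map_inv, ← map_inv, ← map_mul, ← map_mul, ← map_mul, ← map_mul, ← map_mul, hu, hv, mul_inv_cancel_left]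
  exact hprj.symm

theorem exists_conj_ne_zero {g : SL(2, F)} (hg : NonScalar (g : Matrix (Fin 2) (Fin 2) F)) :
    ∃ c : SL(2, F), ((c * g * c⁻¹ : SL(2, F)) : Matrix (Fin 2) (Fin 2) F) 1 0 ≠ 0 := by
  by_cases h10 : (g : Matrix (Fin 2) (Fin 2) F) 1 0 = 0
  swap; · exact ⟨1, by simpa using h10⟩
  by_cases h01 : (g : Matrix (Fin 2) (Fin 2) F) 0 1 = 0
  swap
  · refine ⟨⟨!![0, 1; -1, 0], by simp [Matrix.det_fin_two]⟩, ?_⟩
    change (!![(0 : F), 1; -1, 0] * (g : Matrix (Fin 2) (Fin 2) F) * (!![(0 : F), 1; -1, 0]).adjugate) 1 0 ≠ 0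
    simp [Matrix.adjugate_fin_two, Matrix.mul_apply, Fin.sum_univ_two, Matrix.vecMul, dotProduct, h01]
  refine ⟨⟨!![1, 0; 1, 1], by simp [Matrix.det_fin_two]⟩, ?_⟩
  change (!![(1 : F), 0; 1, 1] * (g : Matrix (Fin 2) (Fin 2) F) * (!![(1 : F), 0; 1, 1]).adjugate) 1 0 ≠ 0
  simp [Matrix.adjugate_fin_two, Matrix.mul_apply, Fin.sum_univ_two, Matrix.vecMul, dotProduct, h01, h10]
  exact fun e => hg ⟨h01, h10, by linear_combination e⟩

theorem product_not_class (h4 : 4 ≤ Fintype.card F) (G H : SL(2, F))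
    (hG : (G : Matrix (Fin 2) (Fin 2) F) 1 0 ≠ 0) (hH : (H : Matrix (Fin 2) (Fin 2) F) 1 0 ≠ 0) (τ : F) :
    ∃ u : SL(2, F), ((u * G * u⁻¹ * H : SL(2, F)) : Matrix (Fin 2) (Fin 2) F).trace ≠ τ ∧
      ((u * G * u⁻¹ * H : SL(2, F)) : Matrix (Fin 2) (Fin 2) F).trace ≠ -τ := by
  classical
  set g := (G : Matrix (Fin 2) (Fin 2) F)
  set k := (H : Matrix (Fin 2) (Fin 2) F)
  let one' : {r : F // r * r = 1} := ⟨1, mul_one 1⟩
  let f : F → F := fun y => ((upper one' y * G * (upper one' y)⁻¹ * H : SL(2, F)) : Matrix (Fin 2) (Fin 2) F).trace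
  suffices h : ∃ y, f y ≠ τ ∧ f y ≠ -τ from let ⟨y, hy⟩ := h; ⟨upper one' y, hy⟩
  obtain ⟨B, C, hf⟩ : ∃ B C, ∀ y, f y = -(g 1 0 * k 1 0) * (y * y) + B * y + C :=
    ⟨g 1 0 * k 0 0 + (g 1 1 - g 0 0) * k 1 0 - g 1 0 * k 1 1, g 0 0 * k 0 0 + g 0 1 * k 1 0 + g 1 0 * k 0 1 + g 1 1 * k 1 1,
      fun y => by
        simp only [f, Matrix.SpecialLinearGroup.coe_mul, Matrix.SpecialLinearGroup.coe_inv, coe_upper, one']
        simp [Matrix.adjugate_fin_two, Matrix.trace_fin_two, Matrix.mul_apply, Fin.sum_univ_two, Matrix.vecMul, dotProduct, g, k]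
        ring⟩
  set a := -(g 1 0 * k 1 0)
  have ha : a ≠ 0 := neg_ne_zero.2 (mul_ne_zero hG hH)
  have hfib : ∀ v, (Finset.univ.filter fun y => f y = v).card ≤ 2 := by
    intro v
    by_contra hlt
    obtain ⟨x, hx, y, hy, z, hz, hxy, hxz, hyz⟩ := Finset.two_lt_card.1 (not_le.1 hlt)
    rw [Finset.mem_filter, hf] at hx hy hz
    have e1 : a * (x + y) + B = 0 := (mul_eq_zero.1 (show (x - y) * (a * (x + y) + B) = 0 by linear_combination hx.2 - hy.2)).resolve_left (sub_ne_zero.2 hxy)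
    have e2 : a * (x + z) + B = 0 := (mul_eq_zero.1 (show (x - z) * (a * (x + z) + B) = 0 by linear_combination hx.2 - hz.2)).resolve_left (sub_ne_zero.2 hxz)
    exact hyz (mul_left_cancel₀ ha (by linear_combination e1 - e2))
  by_contra hall
  push Not at hall
  have hsub : (Finset.univ : Finset F) ⊆ (Finset.univ.filter fun y => f y = τ) ∪ (Finset.univ.filter fun y => f y = -τ) := by
    intro y _
    rw [Finset.mem_union, Finset.mem_filter, Finset.mem_filter]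
    by_cases h : f y = τ
    · exact .inl ⟨Finset.mem_univ _, h⟩
    · exact .inr ⟨Finset.mem_univ _, hall y h⟩
  have hle := Finset.card_le_card hsub
  rw [Finset.card_univ] at hle
  rcases Nat.even_or_odd (Fintype.card F) with he | ho
  · haveI : CharP F 2 := ringChar.eq_iff.1 (FiniteField.even_card_iff_char_two.2 (Nat.even_iff.1 he))
    rw [CharTwo.neg_eq, Finset.union_idempotent] at hle
    have := hfib τ
    omega
  · have := hfib τ
    have := hfib (-τ)
    have := Finset.card_union_le (Finset.univ.filter fun y => f y = τ) (Finset.univ.filter fun y => f y = -τ)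
    obtain ⟨k, hk⟩ := ho
    omega

end Cfsg.Lib.GLTwo
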