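import Cfsg.Agent.Known.SLTwo.Torus

/-! Conjugacy class sizes of PSL₂. -/

set_option autoImplicit false
set_option linter.unusedSectionVars false

open Matrix
open scoped MatrixGroups

namespace Cfsg.Lib.GLTwo

variable {F : Type*} [Field F] [Fintype F]

/-- The size of the class of the image of `s`. -/
noncomputable def clsSize (s : SL(2, F)) : ℕ :=
  (Subgroup.centralizer ({prj s} : Set (Matrix.ProjectiveSpecialLinearGroup (Fin 2) F))).index

theorem clsSize_scalar {s : SL(2, F)} (h : ¬ NonScalar (s : Matrix (Fin 2) (Fin 2) F)) : clsSize s = 1 := by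
  have e : prj s = 1 := (QuotientGroup.eq_one_iff s).2 ((mem_center_iff s).2 h)
  rw [clsSize, e, Subgroup.index_eq_one, eq_top_iff]
  intro x _
  exact Subgroup.mem_centralizer_singleton_iff.2 (by rw [mul_one, one_mul])

theorem clsSize_of_card {s : SL(2, F)} {k N : ℕ}
    (hk : Nat.card ↥((Subgroup.centralizer ({prj s} : Set (Matrix.ProjectiveSpecialLinearGroup (Fin 2) F))).comap prj) = k)
    (hN : N * k = Fintype.card F * (Fintype.card F ^ 2 - 1)) : clsSize s = N := by
  have h := index_cent_prj_mul s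
  rw [hk] at h
  refine Nat.eq_of_mul_eq_mul_right (Nat.pos_of_ne_zero fun e => ?_) (h.trans hN.symm)
  rw [e, mul_zero] at hN
  have hq := Fintype.one_lt_card (α := F)
  have : 2 ^ 2 ≤ Fintype.card F ^ 2 := Nat.pow_le_pow_left hq 2
  rcases Nat.mul_eq_zero.1 hN.symm with h' | h' <;> omega

theorem range_eq : Set.range (fun g : Matrix.ProjectiveSpecialLinearGroup (Fin 2) F =>
    (Subgroup.centralizer ({g} : Set (Matrix.ProjectiveSpecialLinearGroup (Fin 2) F))).index) = Set.range (clsSize (F := F)) := by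
  ext n
  constructor
  · rintro ⟨g, rfl⟩
    obtain ⟨s, rfl⟩ := QuotientGroup.mk'_surjective (Subgroup.center SL(2, F)) g
    exact ⟨s, rfl⟩
  · rintro ⟨s, rfl⟩
    exact ⟨prj s, rfl⟩

theorem exists_irred_ne_zero (h4 : 4 ≤ Fintype.card F) : ∃ t : F, t ≠ 0 ∧ Irred t 1 := by
  classical
  obtain ⟨ζ, hζ⟩ := IsCyclic.exists_generator (α := Fˣ)
  have hne : ζ ≠ ζ⁻¹ := fun e => by
    have h1 : orderOf ζ ∣ 2 := orderOf_dvd_of_pow_eq_one (by rw [sq]; nth_rw 2 [e]; exact mul_inv_cancel ζ)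
    rw [orderOf_eq_card_of_forall_mem_zpowers hζ, Nat.card_units, Nat.card_eq_fintype_card] at h1
    have := Nat.le_of_dvd two_pos h1
    omega
  by_contra hno
  push Not at hno
  let f : F → F := fun r => if r = 0 then 0 else r + r⁻¹
  have hsurj : Function.Surjective f := fun t => by
    rcases eq_or_ne t 0 with rfl | ht
    · exact ⟨0, if_pos rfl⟩
    · have := hno t ht
      rw [irred_iff] at this
      push Not at this
      obtain ⟨r, hr, e⟩ := this
      exact ⟨r, by simp only [f, if_neg hr, e]⟩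
  have h := (Finite.injective_iff_surjective.2 hsurj) (a₁ := (ζ : F)) (a₂ := ((ζ⁻¹ : Fˣ) : F)) (by
    simp only [f, Units.ne_zero, if_false, Units.val_inv_eq_inv_val, inv_inv, inv_eq_zero]
    ring)
  exact hne (Units.ext h)

theorem even_range [CharP F 2] (h4 : 4 ≤ Fintype.card F) :
    Set.range (clsSize (F := F)) = {1, Fintype.card F * (Fintype.card F - 1), Fintype.card F ^ 2 - 1,
      Fintype.card F * (Fintype.card F + 1)} := by
  obtain ⟨k, hk⟩ : ∃ k, Fintype.card F = k + 1 := ⟨_, (Nat.sub_add_cancel (Fintype.card_pos (α := F))).symm⟩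
  have hsq : Fintype.card F ^ 2 - 1 = k * (k + 2) := by
    rw [hk, show (k + 1) ^ 2 = k * (k + 2) + 1 by ring, Nat.add_sub_cancel]
  have hsize : ∀ {s : SL(2, F)} {n : ℕ}, Nat.card ↥(Subgroup.centralizer ({s} : Set SL(2, F))) = n →
      Nat.card ↥((Subgroup.centralizer ({prj s} : Set (Matrix.ProjectiveSpecialLinearGroup (Fin 2) F))).comap prj) = n :=
    fun h => (card_comap_cent_of_trace_ne (.inr inferInstance)).trans h
  have hd : Nat.gcd 2 (Fintype.card F - 1) = 1 := by rw [← card_sq_one_eq]; exact card_sq_one_char_two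
  ext n
  simp only [Set.mem_range, Set.mem_insert_iff, Set.mem_singleton_iff]
  constructor
  · rintro ⟨s, rfl⟩
    by_cases hs : NonScalar (s : Matrix (Fin 2) (Fin 2) F)
    swap; · exact .inl (clsSize_scalar hs)
    rcases kinds hs with ⟨-, hc⟩ | ⟨-, hc⟩ | ⟨-, hc⟩
    · exact .inr (.inl (clsSize_of_card (hsize hc) (by rw [hsq, hk, Nat.add_sub_cancel]; ring)))
    · exact .inr (.inr (.inr (clsSize_of_card (hsize hc) (by rw [hsq, hk, Nat.add_sub_cancel]; ring))))
    · exact .inr (.inr (.inl (clsSize_of_card (hsize hc) (by rw [hd, one_mul, mul_comm]))))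
  · rintro (rfl | rfl | rfl | rfl)
    · exact ⟨1, clsSize_scalar one_mem_center⟩
    · obtain ⟨t, ht⟩ := exists_irred (F := F)
      refine ⟨compSL t, clsSize_of_card (hsize (n := Fintype.card F + 1) ((card_centSL (nonScalar_comp t 1)).trans ?_)) (by rw [hsq, hk, Nat.add_sub_cancel]; ring)⟩
      rw [show ((compSL t : SL(2, F)) : Matrix (Fin 2) (Fin 2) F).trace = t from trace_comp t 1, card_one_irred ht]
    · refine ⟨upper ⟨1, mul_one 1⟩ 1, clsSize_of_card (hsize ((card_centSL (nonScalar_upper _ one_ne_zero)).trans ?_)) (mul_comm _ _)⟩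
      rw [trace_upper, card_one_double rfl (mul_one (1 : F)).symm, card_sq_one_char_two, one_mul]
    · obtain ⟨r, hr0, hr1⟩ : ∃ r : F, r ≠ 0 ∧ r ≠ 1 := by
        classical
        obtain ⟨r, -, hr⟩ := Finset.exists_mem_notMem_of_card_lt_card (s := ({0, 1} : Finset F)) (t := Finset.univ)
          (by rw [Finset.card_univ]; exact Finset.card_le_two.trans_lt (by omega))
        simp at hr
        exact ⟨r, hr.1, hr.2⟩
      have hne : r ≠ r⁻¹ := by
        intro e
        have h1 : r * r = 1 := by nth_rw 2 [e]; exact mul_inv_cancel₀ hr0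
        rcases mul_self_eq_one_iff.1 h1 with h | h
        · exact hr1 h
        · exact hr1 (by rw [h, CharTwo.neg_eq])
      refine ⟨compSL (r + r⁻¹), clsSize_of_card (hsize (n := Fintype.card F - 1) ((card_centSL (nonScalar_comp _ 1)).trans ?_)) (by rw [hsq, hk, Nat.add_sub_cancel]; ring)⟩
      rw [show ((compSL (r + r⁻¹) : SL(2, F)) : Matrix (Fin 2) (Fin 2) F).trace = r + r⁻¹ from trace_comp _ 1,
        card_one_split hne rfl (mul_inv_cancel₀ hr0).symm]

theorem odd_range (hodd : Odd (Fintype.card F)) (h7 : 7 ≤ Fintype.card F) :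
    (Fintype.card F % 4 = 1 → Set.range (clsSize (F := F)) =
      {1, (Fintype.card F ^ 2 - 1) / 2, Fintype.card F * (Fintype.card F + 1) / 2,
        Fintype.card F * (Fintype.card F - 1), Fintype.card F * (Fintype.card F + 1)}) ∧
    (Fintype.card F % 4 = 3 → Set.range (clsSize (F := F)) =
      {1, (Fintype.card F ^ 2 - 1) / 2, Fintype.card F * (Fintype.card F - 1) / 2,
        Fintype.card F * (Fintype.card F + 1), Fintype.card F * (Fintype.card F - 1)}) := by
  classical
  have h2 := two_ne_zero_of_odd hodd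
  obtain ⟨j, hj⟩ := id hodd
  set q := Fintype.card F with hq
  obtain ⟨k, hk⟩ : ∃ k, q = k + 1 := ⟨2 * j, hj⟩
  have hsq : q ^ 2 - 1 = k * (k + 2) := by
    rw [hk, show (k + 1) ^ 2 = k * (k + 2) + 1 by ring, Nat.add_sub_cancel]
  have hk2 : k = 2 * j := by omega
  have hd : Nat.gcd 2 (Fintype.card F - 1) = 2 := Nat.gcd_eq_left ⟨j, by omega⟩
  have vA : (q ^ 2 - 1) / 2 = j * (k + 2) := by
    rw [hsq, hk2, mul_assoc, Nat.mul_div_cancel_left _ two_pos]
  have vP : q * (q + 1) / 2 = q * (j + 1) := by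
    rw [show q * (q + 1) = 2 * (q * (j + 1)) by rw [hj]; ring, Nat.mul_div_cancel_left _ two_pos]
  have vM : q * (q - 1) / 2 = q * j := by
    rw [show q * (q - 1) = 2 * (q * j) by rw [hj, Nat.add_sub_cancel]; ring, Nat.mul_div_cancel_left _ two_pos]
  have hiff : IsSquare (-1 : F) ↔ q % 4 ≠ 3 := FiniteField.isSquare_neg_one_iff
  have size : ∀ {s : SL(2, F)}, NonScalar (s : Matrix (Fin 2) (Fin 2) F) → ∀ {c N : ℕ},
      Nat.card (One F (s : Matrix (Fin 2) (Fin 2) F).trace 1) = c →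
      ((s : Matrix (Fin 2) (Fin 2) F).trace ≠ 0 → N * c = q * (q ^ 2 - 1)) →
      ((s : Matrix (Fin 2) (Fin 2) F).trace = 0 → N * (2 * c) = q * (q ^ 2 - 1)) → clsSize s = N := by
    intro s hs c N hc h1 h0
    by_cases ht : (s : Matrix (Fin 2) (Fin 2) F).trace = 0
    · exact clsSize_of_card (by rw [card_comap_cent_of_trace_eq h2 hs ht, card_centSL hs, hc]) (h0 ht)
    · exact clsSize_of_card (by rw [card_comap_cent_of_trace_ne (.inl ht), card_centSL hs, hc]) (h1 ht)
  have irredI : ∀ {s : SL(2, F)}, NonScalar (s : Matrix (Fin 2) (Fin 2) F) → Irred (s : Matrix (Fin 2) (Fin 2) F).trace 1 →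
      ((s : Matrix (Fin 2) (Fin 2) F).trace ≠ 0 → clsSize s = q * (q - 1)) ∧
      ((s : Matrix (Fin 2) (Fin 2) F).trace = 0 → q % 4 = 3 ∧ clsSize s = q * (q - 1) / 2) := by
    intro s hs hi
    refine ⟨fun ht => size hs (card_one_irred hi) (fun _ => by rw [hsq, ← hq, hk, Nat.add_sub_cancel]; ring) fun e => absurd e ht,
      fun ht => ⟨?_, size hs (card_one_irred hi) (fun e => absurd ht e) fun _ => by rw [vM, hsq, ← hq, hk, hk2]; ring⟩⟩
    by_contra h3
    obtain ⟨r, hr⟩ := hiff.2 h3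
    exact hi r (by rw [ht]; linear_combination -hr)
  have splitI : ∀ {s : SL(2, F)}, NonScalar (s : Matrix (Fin 2) (Fin 2) F) → ∀ {r r' : F}, r ≠ r' →
      (s : Matrix (Fin 2) (Fin 2) F).trace = r + r' → (1 : F) = r * r' →
      ((s : Matrix (Fin 2) (Fin 2) F).trace ≠ 0 → clsSize s = q * (q + 1)) ∧
      ((s : Matrix (Fin 2) (Fin 2) F).trace = 0 → q % 4 ≠ 3 ∧ clsSize s = q * (q + 1) / 2) := by
    intro s hs r r' hne ht1 hd1
    refine ⟨fun ht => size hs (card_one_split hne ht1 hd1) (fun _ => by rw [hsq, ← hq, hk, Nat.add_sub_cancel]; ring) fun e => absurd e ht,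
      fun ht => ⟨hiff.1 ⟨r, ?_⟩, size hs (card_one_split hne ht1 hd1) (fun e => absurd ht e) fun _ => by
        rw [vP, hsq, ← hq, hk, Nat.add_sub_cancel, hk2]; ring⟩⟩
    rw [ht1] at ht
    linear_combination -r * ht - hd1 - 0 * ht
  have doubleI : ∀ {s : SL(2, F)}, NonScalar (s : Matrix (Fin 2) (Fin 2) F) → ∀ {r : F}, r * r = 1 →
      (s : Matrix (Fin 2) (Fin 2) F).trace = r + r → clsSize s = (q ^ 2 - 1) / 2 := by
    intro s hs r hr ht1
    refine size hs (card_one_double ht1 hr.symm) (fun _ => by rw [card_sq_one h2, vA, hsq, ← hq, hk, hk2]; ring) fun e => ?_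
    exfalso
    rw [ht1] at e
    exact left_ne_zero_of_mul_eq_one hr ((mul_eq_zero.1 (show (2 : F) * r = 0 by linear_combination e)).resolve_left h2)
  have all : ∀ s : SL(2, F), clsSize s = 1 ∨ clsSize s = (q ^ 2 - 1) / 2 ∨ (q % 4 ≠ 3 ∧ clsSize s = q * (q + 1) / 2) ∨
      (q % 4 = 3 ∧ clsSize s = q * (q - 1) / 2) ∨ clsSize s = q * (q + 1) ∨ clsSize s = q * (q - 1) := by
    intro s
    by_cases hs : NonScalar (s : Matrix (Fin 2) (Fin 2) F)
    swap; · exact .inl (clsSize_scalar hs)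
    rcases kinds hs with ⟨hi, -⟩ | ⟨⟨r, r', hne, ht, hd'⟩, -⟩ | ⟨⟨r, hr, ht⟩, -⟩
    · by_cases h0 : (s : Matrix (Fin 2) (Fin 2) F).trace = 0
      · exact .inr (.inr (.inr (.inl ((irredI hs hi).2 h0))))
      · exact .inr (.inr (.inr (.inr (.inr ((irredI hs hi).1 h0)))))
    · by_cases h0 : (s : Matrix (Fin 2) (Fin 2) F).trace = 0
      · exact .inr (.inr (.inl ((splitI hs hne ht hd').2 h0)))
      · exact .inr (.inr (.inr (.inr (.inl ((splitI hs hne ht hd').1 h0)))))
    · exact .inr (.inl (doubleI hs hr ht))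
  have ex1 : ∃ s : SL(2, F), clsSize s = 1 := ⟨1, clsSize_scalar one_mem_center⟩
  have exA : ∃ s : SL(2, F), clsSize s = (q ^ 2 - 1) / 2 :=
    ⟨_, doubleI (nonScalar_upper ⟨1, mul_one 1⟩ one_ne_zero) (mul_one 1) (trace_upper _ _)⟩
  have exM : ∃ s : SL(2, F), clsSize s = q * (q - 1) := by
    obtain ⟨t, ht0, ht⟩ := exists_irred_ne_zero (F := F) (by omega)
    have e : ((compSL t : SL(2, F)) : Matrix (Fin 2) (Fin 2) F).trace = t := trace_comp t 1
    exact ⟨_, (irredI (s := compSL t) (nonScalar_comp t 1) (by rw [e]; exact ht)).1 (by rw [e]; exact ht0)⟩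
  have exP : ∃ s : SL(2, F), clsSize s = q * (q + 1) := by
    obtain ⟨ζ, hζ⟩ := IsCyclic.exists_generator (α := Fˣ)
    have ho : orderOf ζ = q - 1 := by
      rw [orderOf_eq_card_of_forall_mem_zpowers hζ, Nat.card_units, Nat.card_eq_fintype_card]
    set r := (ζ : F) with hr
    have h4 : r ^ 4 ≠ 1 := fun e => by
      have := Nat.le_of_dvd (by norm_num) (orderOf_dvd_of_pow_eq_one (x := ζ) (n := 4) (Units.ext (by simpa using e)))
      omega
    have hne : r ≠ r⁻¹ := fun e => h4 (by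
      have : r * r = 1 := by nth_rw 2 [e]; exact mul_inv_cancel₀ ζ.ne_zero
      linear_combination (r * r + 1) * this)
    have e : ((compSL (r + r⁻¹) : SL(2, F)) : Matrix (Fin 2) (Fin 2) F).trace = r + r⁻¹ := trace_comp _ 1
    refine ⟨_, (splitI (s := compSL (r + r⁻¹)) (nonScalar_comp (r + r⁻¹) 1) hne e (mul_inv_cancel₀ ζ.ne_zero).symm).1 (by
      rw [e]; intro h0; refine h4 ?_
      have : r * r = -1 := by
        have h1 : r * (r + r⁻¹) = 0 := by rw [h0, mul_zero]
        rw [mul_add, mul_inv_cancel₀ ζ.ne_zero] at h1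
        linear_combination h1
      linear_combination (r * r - 1) * this)⟩
  have exH : ∃ s : SL(2, F), (q % 4 ≠ 3 → clsSize s = q * (q + 1) / 2) ∧ (q % 4 = 3 → clsSize s = q * (q - 1) / 2) := by
    refine ⟨compSL 0, ?_⟩
    have e : ((compSL (0 : F) : SL(2, F)) : Matrix (Fin 2) (Fin 2) F).trace = 0 := trace_comp 0 1
    rcases kinds (g := compSL (0 : F)) (nonScalar_comp 0 1) with
      ⟨hi, -⟩ | ⟨⟨r, r', hne, ht, hd'⟩, -⟩ | ⟨⟨r, hr, ht⟩, -⟩
    · obtain ⟨h3, hv⟩ := (irredI (s := compSL (0 : F)) (nonScalar_comp 0 1) hi).2 e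
      exact ⟨fun h => absurd h3 h, fun _ => hv⟩
    · obtain ⟨h3, hv⟩ := (splitI (s := compSL (0 : F)) (nonScalar_comp 0 1) hne ht hd').2 e
      exact ⟨fun _ => hv, fun h => absurd h h3⟩
    · exfalso
      rw [e] at ht
      exact left_ne_zero_of_mul_eq_one hr ((mul_eq_zero.1 (show (2 : F) * r = 0 by linear_combination -ht)).resolve_left h2)
  refine ⟨fun h4 => ?_, fun h4 => ?_⟩ <;> ext n <;> simp only [Set.mem_range, Set.mem_insert_iff, Set.mem_singleton_iff]
  · constructor
    · rintro ⟨s, rfl⟩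
      rcases all s with h | h | ⟨-, h⟩ | ⟨h3, -⟩ | h | h
      · exact .inl h
      · exact .inr (.inl h)
      · exact .inr (.inr (.inl h))
      · omega
      · exact .inr (.inr (.inr (.inr h)))
      · exact .inr (.inr (.inr (.inl h)))
    · rintro (rfl | rfl | rfl | rfl | rfl)
      exacts [ex1, exA, exH.imp fun s hs => hs.1 (by omega), exM, exP]
  · constructor
    · rintro ⟨s, rfl⟩
      rcases all s with h | h | ⟨h3, -⟩ | ⟨-, h⟩ | h | h
      · exact .inl h
      · exact .inr (.inl h)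
      · omega
      · exact .inr (.inr (.inl h))
      · exact .inr (.inr (.inr (.inl h)))
      · exact .inr (.inr (.inr (.inr h)))
    · rintro (rfl | rfl | rfl | rfl | rfl)
      exacts [ex1, exA, exH.imp fun s hs => hs.2 h4, exP, exM]

end Cfsg.Lib.GLTwo
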