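import Cfsg.Agent.Known.SLTwo.Cases
import Cfsg.Agent.Classical.Misc.SLTwoTori

/-! Conjugacy classes and centralizers in SL₂ over a finite field. -/

set_option autoImplicit false
set_option linter.unusedSectionVars false

open Matrix
open scoped MatrixGroups

namespace Cfsg.Lib.GLTwo

variable {F : Type*} [Field F]

/-- `[[r, x], [0, r]]` as an element of SL₂. -/
def upper (r : {r : F // r * r = 1}) (x : F) : SL(2, F) :=
  ⟨!![(r : F), x; 0, r], by simp [Matrix.det_fin_two, r.2]⟩

/-- The companion element with trace `t`. -/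
def compSL (t : F) : SL(2, F) := ⟨comp t 1, det_comp t 1⟩

@[simp] theorem coe_upper (r : {r : F // r * r = 1}) (x : F) :
    ((upper r x : SL(2, F)) : Matrix (Fin 2) (Fin 2) F) = !![(r : F), x; 0, r] := rfl

theorem nonScalar_upper (r : {r : F // r * r = 1}) {x : F} (hx : x ≠ 0) :
    NonScalar ((upper r x : SL(2, F)) : Matrix (Fin 2) (Fin 2) F) := fun h => hx (by simpa [upper] using h.1)

theorem trace_upper (r : {r : F // r * r = 1}) (x : F) :
    ((upper r x : SL(2, F)) : Matrix (Fin 2) (Fin 2) F).trace = (r : F) + r := by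
  simp [Matrix.trace_fin_two]

theorem eq_upper_of_scalar {g : SL(2, F)} (h : ¬ NonScalar (g : Matrix (Fin 2) (Fin 2) F)) :
    ∃ r, g = upper r 0 := by
  obtain ⟨h01, h10, h11⟩ := not_not.1 h
  have hd := g.2
  rw [Matrix.det_fin_two, h01, h10, ← h11, mul_zero, sub_zero] at hd
  refine ⟨⟨_, hd⟩, Subtype.ext ?_⟩
  ext i j; fin_cases i <;> fin_cases j <;> simp [upper, h01, h10, h11]

theorem upper_zero_central (r : {r : F // r * r = 1}) (g : SL(2, F)) : g * upper r 0 = upper r 0 * g := by
  refine Subtype.ext ?_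
  simp only [Matrix.SpecialLinearGroup.coe_mul, coe_upper]
  ext i j; fin_cases i <;> fin_cases j <;> simp [Matrix.mul_apply, Fin.sum_univ_two] <;> ring

theorem eq_of_isConj_upper_zero {r : {r : F // r * r = 1}} {g : SL(2, F)} (h : IsConj (upper r 0) g) :
    g = upper r 0 := by
  obtain ⟨c, hc⟩ := isConj_iff.1 h
  rw [← hc, upper_zero_central, mul_inv_cancel_right]

theorem trace_eq_of_isConj {g h : SL(2, F)} (hc : IsConj g h) :
    (g : Matrix (Fin 2) (Fin 2) F).trace = (h : Matrix (Fin 2) (Fin 2) F).trace := by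
  obtain ⟨c, hc⟩ := isConj_iff.1 hc
  rw [← hc, Matrix.SpecialLinearGroup.coe_mul, Matrix.trace_mul_comm, ← Matrix.SpecialLinearGroup.coe_mul,
    ← mul_assoc, inv_mul_cancel, one_mul]

/-- An element with a double eigenvalue `r` is conjugate to some `upper r x`. -/
theorem exists_upper {g : SL(2, F)} (hg : NonScalar (g : Matrix (Fin 2) (Fin 2) F)) (r : {r : F // r * r = 1})
    (ht : (g : Matrix (Fin 2) (Fin 2) F).trace = (r : F) + r) : ∃ x : F, x ≠ 0 ∧ IsConj g (upper r x) := by
  obtain ⟨P, hP⟩ := exists_conj (g := Matrix.SpecialLinearGroup.toGL g)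
    (h := Matrix.SpecialLinearGroup.toGL (upper r 1)) hg (nonScalar_upper r one_ne_zero)
    (ht.trans (trace_upper r 1).symm) (g.2.trans (upper r 1).2.symm)
  set c := (P : Matrix (Fin 2) (Fin 2) F).det with hc
  have hc0 : c ≠ 0 := Matrix.GeneralLinearGroup.det_ne_zero P
  refine ⟨c⁻¹, inv_ne_zero hc0, ?_⟩
  let s : SL(2, F) := ⟨!![c⁻¹, 0; 0, 1] * (P : Matrix (Fin 2) (Fin 2) F), by
    rw [Matrix.det_mul, ← hc, Matrix.det_fin_two]; simp [hc0]⟩
  refine isConj_iff.2 ⟨s, ?_⟩
  rw [mul_inv_eq_iff_eq_mul]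
  refine Subtype.ext ?_
  have e : (P : Matrix (Fin 2) (Fin 2) F) * (g : Matrix (Fin 2) (Fin 2) F) =
      !![(r : F), 1; 0, r] * (P : Matrix (Fin 2) (Fin 2) F) :=
    congrArg Units.val (mul_inv_eq_iff_eq_mul.1 hP)
  change !![c⁻¹, 0; 0, 1] * (P : Matrix (Fin 2) (Fin 2) F) * (g : Matrix (Fin 2) (Fin 2) F) =
    !![(r : F), c⁻¹; 0, r] * (!![c⁻¹, 0; 0, 1] * (P : Matrix (Fin 2) (Fin 2) F))
  rw [Matrix.mul_assoc, e, ← Matrix.mul_assoc, ← Matrix.mul_assoc]
  congr 1
  ext i j; fin_cases i <;> fin_cases j <;> simp [Matrix.mul_apply, Fin.sum_univ_two]; ring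

theorem isConj_upper_iff (r : {r : F // r * r = 1}) {x y : F} (hx : x ≠ 0) :
    IsConj (upper r x) (upper r y) ↔ ∃ s : F, s ≠ 0 ∧ y = x * s * s := by
  constructor
  · intro h
    obtain ⟨c, hc⟩ := isConj_iff.1 h
    have e : (c : Matrix (Fin 2) (Fin 2) F) * !![(r : F), x; 0, r] = !![(r : F), y; 0, r] * (c : Matrix (Fin 2) (Fin 2) F) :=
      congrArg (fun z : SL(2, F) => (z : Matrix (Fin 2) (Fin 2) F)) (mul_inv_eq_iff_eq_mul.1 hc)
    have e01 := congrFun (congrFun e 0) 1
    have e11 := congrFun (congrFun e 1) 1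
    simp [Matrix.mul_apply, Fin.sum_univ_two] at e01 e11
    have h10 : (c : Matrix (Fin 2) (Fin 2) F) 1 0 = 0 :=
      (mul_eq_zero.1 (show (c : Matrix (Fin 2) (Fin 2) F) 1 0 * x = 0 by linear_combination e11)).resolve_right hx
    have hd := c.2
    rw [Matrix.det_fin_two, h10, mul_zero, sub_zero] at hd
    refine ⟨(c : Matrix (Fin 2) (Fin 2) F) 0 0, left_ne_zero_of_mul_eq_one hd, ?_⟩
    linear_combination (-(c : Matrix (Fin 2) (Fin 2) F) 0 0) * e01 - y * hd
  · rintro ⟨s, hs, rfl⟩
    let c : SL(2, F) := ⟨!![s, 0; 0, s⁻¹], by simp [Matrix.det_fin_two, hs]⟩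
    refine isConj_iff.2 ⟨c, ?_⟩
    rw [mul_inv_eq_iff_eq_mul]
    refine Subtype.ext ?_
    change !![s, 0; 0, s⁻¹] * !![(r : F), x; 0, r] = !![(r : F), x * s * s; 0, r] * !![s, 0; 0, s⁻¹]
    ext i j; fin_cases i <;> fin_cases j <;> simp [Matrix.mul_apply, Fin.sum_univ_two] <;> field_simp <;> ring

variable [Fintype F]

theorem card_sq_one (h2 : (2 : F) ≠ 0) : Nat.card {x : F // x * x = 1} = 2 := by
  have hne : (1 : F) ≠ -1 := fun h => h2 (by linear_combination h)
  rw [show Nat.card {x : F // x * x = 1} = ({1, -1} : Set F).ncard from ?_, Set.ncard_pair hne]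
  rw [← Nat.card_coe_set_eq]
  exact Nat.card_congr (Equiv.subtypeEquivRight fun x => by simp [mul_self_eq_one_iff])

theorem card_sq_one_char_two [CharP F 2] : Nat.card {x : F // x * x = 1} = 1 := by
  haveI : Subsingleton {x : F // x * x = 1} := ⟨fun a b => Subtype.ext <| by
    have key : ∀ x : {x : F // x * x = 1}, (x : F) = 1 := fun x => by
      rcases mul_self_eq_one_iff.1 x.2 with h | h
      · exact h
      · rw [h, CharTwo.neg_eq]
    rw [key a, key b]⟩
  haveI : Nonempty {x : F // x * x = 1} := ⟨⟨1, mul_one 1⟩⟩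
  exact Nat.card_unique

/-- The map onto the centralizer in SL₂. -/
def toSLCent (g : SL(2, F)) (ab : One F (g : Matrix (Fin 2) (Fin 2) F).trace 1) :
    ↥(Subgroup.centralizer ({g} : Set SL(2, F))) :=
  ⟨⟨combo (g : Matrix (Fin 2) (Fin 2) F) ab.1.1 ab.1.2, by rw [det_combo, g.2]; exact ab.2⟩,
    Subgroup.mem_centralizer_singleton_iff.2 (Subtype.ext (combo_comm _ _ _))⟩

theorem toSLCent_bijective {g : SL(2, F)} (hg : NonScalar (g : Matrix (Fin 2) (Fin 2) F)) :
    Function.Bijective (toSLCent g) := by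
  constructor
  · intro x y hxy
    obtain ⟨h1, h2⟩ := combo_inj hg (congrArg (fun z : ↥(Subgroup.centralizer ({g} : Set SL(2, F))) =>
      ((z : SL(2, F)) : Matrix (Fin 2) (Fin 2) F)) hxy)
    exact Subtype.ext (Prod.ext h1 h2)
  · rintro ⟨x, hx⟩
    obtain ⟨a, b, hab⟩ := exists_combo hg (congrArg (fun z : SL(2, F) => (z : Matrix (Fin 2) (Fin 2) F)) (Subgroup.mem_centralizer_singleton_iff.1 hx))
    refine ⟨⟨(a, b), ?_⟩, Subtype.ext (Subtype.ext hab.symm)⟩
    have := x.2
    rw [hab, det_combo, g.2] at this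
    exact this

theorem card_centSL {g : SL(2, F)} (hg : NonScalar (g : Matrix (Fin 2) (Fin 2) F)) :
    Nat.card ↥(Subgroup.centralizer ({g} : Set SL(2, F))) = Nat.card (One F (g : Matrix (Fin 2) (Fin 2) F).trace 1) :=
  (Nat.card_congr (Equiv.ofBijective _ (toSLCent_bijective hg))).symm

theorem card_one_split {t r s : F} (h : r ≠ s) (ht : t = r + s) (hd : (1 : F) = r * s) :
    Nat.card (One F t 1) = Fintype.card F - 1 := by
  subst ht
  rw [← card_ne_zero' (F := F), hd]
  refine Nat.card_congr (((splitEquiv h).subtypeEquiv (q := fun xy : F × F => xy.1 * xy.2 = 1) fun ab => ?_).trans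
    { toFun := fun z => ⟨z.1.1, left_ne_zero_of_mul_eq_one z.2⟩
      invFun := fun x => ⟨(x.1, x.1⁻¹), mul_inv_cancel₀ x.2⟩
      left_inv := fun z => Subtype.ext (Prod.ext rfl (inv_eq_of_mul_eq_one_right z.2))
      right_inv := fun x => rfl })
  rw [← hd]
  exact Iff.of_eq (congrArg (· = 1) ((congrArg (fun d => form (r + s) d ab) hd).trans (form_split r s ab)))

theorem card_one_irred {t : F} (h : Irred t 1) : Nat.card (One F t 1) = Fintype.card F + 1 := by
  set g := Matrix.SpecialLinearGroup.toGL (compSL t) with hgdef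
  have hg : NonScalar (g : Matrix (Fin 2) (Fin 2) F) := nonScalar_comp t 1
  have ht : (g : Matrix (Fin 2) (Fin 2) F).trace = t := trace_comp t 1
  have hd : (g : Matrix (Fin 2) (Fin 2) F).det = 1 := det_comp t 1
  have h' : Irred (g : Matrix (Fin 2) (Fin 2) F).trace (g : Matrix (Fin 2) (Fin 2) F).det := by rw [ht, hd]; exact h
  have hC := (card_cent hg).trans (card_good_irred h')
  rw [Subgroup.card_eq_card_quotient_mul_card_subgroup (detHom g).ker,
    Nat.card_congr (QuotientGroup.quotientKerEquivRange (detHom g)).toEquiv, (full_irred hg h').1,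
    Subgroup.card_top, Nat.card_units, Nat.card_eq_fintype_card, card_ker hg, ht, hd] at hC
  have hq := Fintype.one_lt_card (α := F)
  obtain ⟨k, hk⟩ : ∃ k, Fintype.card F = k + 2 := ⟨Fintype.card F - 2, by omega⟩
  rw [hk, show k + 2 - 1 = k + 1 by omega,
    show (k + 2) ^ 2 - 1 = (k + 1) * (k + 3) by rw [show (k + 2) ^ 2 = (k + 1) * (k + 3) + 1 by ring]; omega] at hC
  rw [hk, show k + 2 + 1 = k + 3 by omega]
  exact Nat.eq_of_mul_eq_mul_left (by omega) hC

theorem full_SL (g : SL(2, F)) (hg : NonScalar (g : Matrix (Fin 2) (Fin 2) F))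
    (h : (∀ r : F, r * r = 1 → (g : Matrix (Fin 2) (Fin 2) F).trace ≠ r + r) ∨ CharP F 2) :
    Full (Matrix.SpecialLinearGroup.toGL g) := by
  rcases trichotomy (g : Matrix (Fin 2) (Fin 2) F).trace (g : Matrix (Fin 2) (Fin 2) F).det with hi | ⟨r, s, hrs, ht, hd⟩ | ⟨r, ht, hd⟩
  · exact (full_irred (g := Matrix.SpecialLinearGroup.toGL g) hg hi).2
  · exact full_split hrs ht hd
  · rcases h with h | h
    · exact absurd ht (h r (hd.symm.trans g.2))
    · haveI := h
      exact full_char_two ht hd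

theorem two_ne_zero_of_odd (h : Odd (Fintype.card F)) : (2 : F) ≠ 0 :=
  Ring.two_ne_zero fun e => (Nat.not_even_iff_odd.2 h) (Nat.even_iff.2 (FiniteField.even_card_of_char_two e))

theorem card_carrier_mul {G : Type*} [Group G] [Finite G] (g : G) :
    Nat.card (ConjClasses.mk g).carrier * Nat.card ↥(Subgroup.centralizer ({g} : Set G)) = Nat.card G := by
  haveI := Fintype.ofFinite G
  classical
  rw [Subgroup.nat_card_centralizer_nat_card_stabilizer, ← ConjAct.orbit_eq_carrier_conjClasses,
    Nat.card_eq_fintype_card, Nat.card_eq_fintype_card, Nat.card_eq_fintype_card,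
    MulAction.card_orbit_mul_card_stabilizer_eq_card_group (ConjAct G) g, ConjAct.card]

/-- The representatives of the classes, odd characteristic. -/
def repOdd (ν : F) : ({r : F // r * r = 1} × Option Bool) ⊕ {t : F // t * t ≠ 4} → ConjClasses SL(2, F)
  | .inl (r, none) => ConjClasses.mk (upper r 0)
  | .inl (r, some true) => ConjClasses.mk (upper r 1)
  | .inl (r, some false) => ConjClasses.mk (upper r ν)
  | .inr t => ConjClasses.mk (compSL (t : F))

theorem repOdd_bijective (h2 : (2 : F) ≠ 0) {ν : F} (hν : ¬ IsSquare ν) : Function.Bijective (repOdd (F := F) ν) := by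
  have hν0 : ν ≠ 0 := fun h => hν (by rw [h]; exact IsSquare.zero)
  let val : Option Bool → F := fun o => match o with | none => 0 | some true => 1 | some false => ν
  have hrep : ∀ r o, repOdd ν (.inl (r, o)) = ConjClasses.mk (upper r (val o)) := by
    intro r o
    rcases o with _ | _ | _ <;> rfl
  have inl_inj : ∀ r r' : {r : F // r * r = 1}, ∀ o o', IsConj (upper r (val o)) (upper r' (val o')) → r = r' ∧ o = o' := by
    intro r r' o o' h
    have ht := trace_eq_of_isConj h
    rw [trace_upper, trace_upper] at ht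
    obtain rfl : r = r' := Subtype.ext (mul_left_cancel₀ h2 (by linear_combination ht))
    refine ⟨rfl, ?_⟩
    have nz : ∀ b, val (some b) ≠ 0 := by intro b; cases b <;> simp [val, hν0]
    have zero_case : ∀ b, ¬ IsConj (upper r (val none)) (upper r (val (some b))) := fun b hb => by
      have := congrArg (fun z : SL(2, F) => (z : Matrix (Fin 2) (Fin 2) F) 0 1) (eq_of_isConj_upper_zero hb)
      exact nz b (by simpa [val] using this)
    rcases o with _ | b <;> rcases o' with _ | b'
    · rfl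
    · exact absurd h (zero_case b')
    · exact absurd h.symm (zero_case b)
    · obtain ⟨s, hs, e⟩ := (isConj_upper_iff r (nz b)).1 h
      rcases b <;> rcases b' <;> try rfl
      · exfalso
        simp [val] at e
        exact hν ⟨s⁻¹, by field_simp; linear_combination -e⟩
      · exfalso
        simp [val] at e
        exact hν ⟨s, e⟩
  have tr_ne : ∀ (r : {r : F // r * r = 1}) o (t : {t : F // t * t ≠ 4}), ¬ IsConj (upper r (val o)) (compSL (t : F)) := by
    intro r o t h
    have ht := trace_eq_of_isConj h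
    rw [trace_upper, show ((compSL (t : F) : SL(2, F)) : Matrix (Fin 2) (Fin 2) F) = comp (t : F) 1 from rfl, trace_comp] at ht
    exact t.2 (by rw [← ht]; linear_combination 4 * r.2)
  constructor
  · rintro (⟨r, o⟩ | t) (⟨r', o'⟩ | t') h
    · rw [hrep, hrep, ConjClasses.mk_eq_mk_iff_isConj] at h
      obtain ⟨rfl, rfl⟩ := inl_inj r r' o o' h
      rfl
    · rw [hrep, show repOdd ν (.inr t') = ConjClasses.mk (compSL (t' : F)) from rfl, ConjClasses.mk_eq_mk_iff_isConj] at h
      exact absurd h (tr_ne r o t')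
    · rw [hrep, show repOdd ν (.inr t) = ConjClasses.mk (compSL (t : F)) from rfl, ConjClasses.mk_eq_mk_iff_isConj] at h
      exact absurd h.symm (tr_ne r' o' t)
    · have h' := trace_eq_of_isConj (ConjClasses.mk_eq_mk_iff_isConj.1 h)
      exact congrArg Sum.inr (Subtype.ext (by simpa [compSL, trace_comp] using h'))
  · intro C
    obtain ⟨g, rfl⟩ := ConjClasses.exists_rep C
    by_cases hg : NonScalar (g : Matrix (Fin 2) (Fin 2) F)
    swap
    · obtain ⟨r, rfl⟩ := eq_upper_of_scalar hg
      exact ⟨.inl (r, none), rfl⟩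
    by_cases ht : (g : Matrix (Fin 2) (Fin 2) F).trace * (g : Matrix (Fin 2) (Fin 2) F).trace = 4
    · set t := (g : Matrix (Fin 2) (Fin 2) F).trace with htdef
      have hr : t / 2 * (t / 2) = 1 := by field_simp; linear_combination ht
      obtain ⟨x, hx, hc⟩ := exists_upper hg ⟨t / 2, hr⟩ (by rw [← htdef]; field_simp; ring)
      by_cases hsq : IsSquare x
      · obtain ⟨s, rfl⟩ := hsq
        refine ⟨.inl (⟨t / 2, hr⟩, some true), ?_⟩
        rw [hrep, ConjClasses.mk_eq_mk_iff_isConj]
        exact (((isConj_upper_iff ⟨t / 2, hr⟩ (show (1 : F) ≠ 0 from one_ne_zero)).2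
          ⟨s, left_ne_zero_of_mul hx, by ring⟩)).trans hc.symm
      · refine ⟨.inl (⟨t / 2, hr⟩, some false), ?_⟩
        rw [hrep, ConjClasses.mk_eq_mk_iff_isConj]
        classical
        obtain ⟨s, hs⟩ : IsSquare (x / ν) := by
          have e1 : quadraticChar F x = -1 := quadraticChar_neg_one_iff_not_isSquare.2 hsq
          have e2 : quadraticChar F ν⁻¹ = -1 := quadraticChar_neg_one_iff_not_isSquare.2 (by simpa using hν)
          refine (quadraticChar_one_iff_isSquare (div_ne_zero hx hν0)).1 ?_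
          rw [div_eq_mul_inv, map_mul, e1, e2]; norm_num
        refine ((isConj_upper_iff ⟨t / 2, hr⟩ hν0).2 ⟨s, ?_, ?_⟩).trans hc.symm
        · rintro rfl; simp [hx, hν0] at hs
        · rw [mul_assoc, ← hs, mul_div_cancel₀ _ hν0]
    · refine ⟨.inr ⟨_, ht⟩, ?_⟩
      rw [show repOdd ν (.inr ⟨_, ht⟩) = ConjClasses.mk (compSL ((g : Matrix (Fin 2) (Fin 2) F).trace)) from rfl,
        ConjClasses.mk_eq_mk_iff_isConj]
      refine (isConj_SL hg (nonScalar_comp _ 1) (trace_comp _ 1).symm (full_SL g hg (.inl fun r hr e => ht ?_))).symm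
      rw [e]; linear_combination 4 * hr

theorem card_not_four (h2 : (2 : F) ≠ 0) : Nat.card {t : F // t * t ≠ 4} = Fintype.card F - 2 := by
  classical
  have e : Nat.card {t : F // t * t = 4} = 2 := by
    refine Eq.trans ?_ (card_sq_one h2)
    refine Nat.card_congr ((Equiv.mulLeft₀ (2 : F) h2).subtypeEquiv fun r => ?_).symm
    show r * r = 1 ↔ 2 * r * (2 * r) = 4
    constructor
    · intro h; linear_combination 4 * h
    · intro h
      exact mul_left_cancel₀ (mul_ne_zero h2 h2) (by linear_combination h)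
  rw [Nat.card_eq_fintype_card, Fintype.card_subtype_compl (fun t : F => t * t = 4), ← Nat.card_eq_fintype_card
    (α := {t : F // t * t = 4}), e]

theorem card_classes_odd (h : Odd (Fintype.card F)) : Nat.card (ConjClasses SL(2, F)) = Fintype.card F + 4 := by
  have h2 := two_ne_zero_of_odd h
  obtain ⟨ν, hν⟩ := FiniteField.exists_nonsquare (F := F) fun e => (Nat.not_even_iff_odd.2 h) (Nat.even_iff.2 (FiniteField.even_card_of_char_two e))
  rw [← Nat.card_congr (Equiv.ofBijective _ (repOdd_bijective h2 hν)), Nat.card_sum, Nat.card_prod, card_sq_one h2,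
    card_not_four h2, Nat.card_eq_fintype_card (α := Option Bool)]
  simp
  have := Fintype.one_lt_card (α := F)
  omega

theorem card_classes_even [CharP F 2] : Nat.card (ConjClasses SL(2, F)) = Fintype.card F + 1 := by
  let one' : {r : F // r * r = 1} := ⟨1, mul_one 1⟩
  let φ : Unit ⊕ F → ConjClasses SL(2, F) := Sum.elim (fun _ => ConjClasses.mk (upper one' 0)) (fun t => ConjClasses.mk (compSL t))
  have hb : Function.Bijective φ := by
    constructor
    · rintro (⟨⟩ | t) (⟨⟩ | t') h
      · rfl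
      · exfalso
        have h' := eq_of_isConj_upper_zero (ConjClasses.mk_eq_mk_iff_isConj.1 h)
        exact nonScalar_comp t' 1 (by
          rw [show comp t' 1 = ((compSL t' : SL(2, F)) : Matrix (Fin 2) (Fin 2) F) from rfl, h']
          exact ⟨by simp, by simp, by simp⟩)
      · exfalso
        have h' := eq_of_isConj_upper_zero (ConjClasses.mk_eq_mk_iff_isConj.1 h).symm
        exact nonScalar_comp t 1 (by
          rw [show comp t 1 = ((compSL t : SL(2, F)) : Matrix (Fin 2) (Fin 2) F) from rfl, h']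
          exact ⟨by simp, by simp, by simp⟩)
      · have h' := trace_eq_of_isConj (ConjClasses.mk_eq_mk_iff_isConj.1 h)
        exact congrArg Sum.inr (by simpa [compSL, trace_comp] using h')
    · intro C
      obtain ⟨g, rfl⟩ := ConjClasses.exists_rep C
      by_cases hg : NonScalar (g : Matrix (Fin 2) (Fin 2) F)
      · exact ⟨.inr _, ConjClasses.mk_eq_mk_iff_isConj.2
          (isConj_SL hg (nonScalar_comp _ 1) (trace_comp _ 1).symm (full_SL g hg (.inr inferInstance))).symm⟩
      · obtain ⟨r, rfl⟩ := eq_upper_of_scalar hg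
        refine ⟨.inl (), ?_⟩
        have : r = one' := Subtype.ext <| by
          rcases mul_self_eq_one_iff.1 r.2 with e | e
          · exact e
          · rw [e, CharTwo.neg_eq]
        rw [this]
        rfl
  rw [← Nat.card_congr (Equiv.ofBijective _ hb), Nat.card_sum, Nat.card_unique, Nat.card_eq_fintype_card]
  omega

end Cfsg.Lib.GLTwo
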