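import Cfsg.Agent.Known.SLTwo.Tori

/-! Sylow centralizers and normalizers in SL₂ of odd characteristic. -/

set_option autoImplicit false
set_option linter.unusedSectionVars false

open Matrix
open scoped MatrixGroups

namespace Cfsg.Lib.GLTwo

variable {F : Type*} [Field F] [Fintype F]

theorem reg_of_dvd_card {g : SL(2, F)} (hg : NonScalar (g : Matrix (Fin 2) (Fin 2) F))
    (h : ¬ Nat.card ↥(Subgroup.centralizer ({g} : Set SL(2, F))) = Nat.gcd 2 (Fintype.card F - 1) * Fintype.card F) :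
    Reg g := by
  refine ⟨hg, fun e => ?_⟩
  rcases kinds hg with ⟨hi, -⟩ | ⟨⟨r, s, hrs, ht, hd⟩, -⟩ | ⟨-, hc⟩
  · by_cases h2 : (2 : F) = 0
    · rw [show (4 : F) = 2 * 2 by norm_num, h2, mul_zero, mul_self_eq_zero] at e
      refine hi 1 ?_
      rw [e]; linear_combination h2
    · exact (isSquare_disc_iff h2 _).1 ⟨0, by rw [e]; ring⟩ hi
  · exact hrs (sub_eq_zero.1 (mul_self_eq_zero.1 (show (r - s) * (r - s) = 0 by
      rw [ht] at e; linear_combination e + (4 : F) * hd)))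
  · exact h hc

theorem odd_sylow (hodd : Odd (Fintype.card F)) (ℓ : ℕ) [Fact ℓ.Prime] (hℓ : ℓ ≠ 2) (P : Sylow ℓ SL(2, F))
    (hd : ℓ ∣ Fintype.card F - 1 ∨ ℓ ∣ Fintype.card F + 1) :
    ∃ g : SL(2, F), Reg g ∧
      Subgroup.centralizer ((P : Subgroup SL(2, F)) : Set SL(2, F)) = Subgroup.centralizer ({g} : Set SL(2, F)) ∧
      Subgroup.normalizer ((P : Subgroup SL(2, F)) : Set SL(2, F)) =
        Subgroup.normalizer ((Subgroup.centralizer ({g} : Set SL(2, F))) : Set SL(2, F)) ∧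
      (ℓ ∣ Fintype.card F - 1 → Nat.card ↥(Subgroup.centralizer ({g} : Set SL(2, F))) = Fintype.card F - 1) ∧
      (ℓ ∣ Fintype.card F + 1 → Nat.card ↥(Subgroup.centralizer ({g} : Set SL(2, F))) = Fintype.card F + 1) := by
  classical
  have hp : ℓ.Prime := Fact.out
  have h2 := two_ne_zero_of_odd hodd
  have hq := Fintype.one_lt_card (α := F)
  have hnot2 : ¬ ℓ ∣ 2 := fun h => hℓ ((Nat.prime_dvd_prime_iff_eq hp Nat.prime_two).1 h)
  have hnq : ¬ ℓ ∣ Fintype.card F := fun h => hp.not_dvd_one (by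
    rcases hd with e | e
    · have := Nat.dvd_sub h e; rwa [Nat.sub_sub_self hq.le] at this
    · exact (Nat.dvd_add_right h).1 e)
  have hG : ℓ ∣ Nat.card SL(2, F) := by
    rw [Cfsg.Lib.Classical.SLTwoTori.card_SL2]
    refine Dvd.dvd.mul_left ?_ _
    rw [← one_pow 2, Nat.sq_sub_sq]
    rcases hd with e | e
    · exact e.mul_left _
    · exact e.mul_right _
  haveI : Nontrivial ↥(P : Subgroup SL(2, F)) := by
    rw [← Finite.one_lt_card_iff_nontrivial]
    exact lt_of_lt_of_le hp.one_lt (Nat.le_of_dvd Nat.card_pos (P.dvd_card_of_dvd_card hG))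
  haveI := P.isPGroup'.center_nontrivial
  obtain ⟨⟨⟨g, hgP⟩, hgZ⟩, hg1⟩ := exists_ne (1 : ↥(Subgroup.center ↥(P : Subgroup SL(2, F))))
  have hg1' : g ≠ 1 := fun e => hg1 (Subtype.ext (Subtype.ext e))
  obtain ⟨k, hk⟩ := IsPGroup.iff_orderOf.1 P.isPGroup' ⟨g, hgP⟩
  rw [Subgroup.orderOf_mk] at hk
  have hgm : g ≠ -1 := by
    intro e
    subst e
    rw [orderOf_eq_prime (p := 2) (show (-1 : SL(2, F)) ^ 2 = 1 by simp) hg1'] at hk
    rcases k with - | k
    · simp at hk
    · exact hnot2 (hk ▸ dvd_pow_self ℓ (Nat.succ_ne_zero k))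
  have hgn := nonScalar_of_ne hg1' hgm
  have hPC : (P : Subgroup SL(2, F)) ≤ Subgroup.centralizer ({g} : Set SL(2, F)) := fun y hy =>
    Subgroup.mem_centralizer_singleton_iff.2 (congrArg Subtype.val (Subgroup.mem_center_iff.1 hgZ ⟨y, hy⟩))
  have hdC : ℓ ∣ Nat.card ↥(Subgroup.centralizer ({g} : Set SL(2, F))) :=
    (P.dvd_card_of_dvd_card hG).trans (Subgroup.card_dvd_of_le hPC)
  have hreg : Reg g := reg_of_dvd_card hgn fun e => by
    rw [e] at hdC
    exact (hp.dvd_mul.1 hdC).elim (fun h => hnot2 (h.trans (Nat.gcd_dvd_left _ _))) hnq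
  refine ⟨g, hreg, le_antisymm (fun y hy => ?_) (fun y hy => ?_), le_antisymm (fun y hy => ?_) (fun y hy => ?_), fun e => ?_, fun e => ?_⟩
  · exact Subgroup.mem_centralizer_singleton_iff.2 (Subgroup.mem_centralizer_iff.1 hy g hgP).symm
  · exact Subgroup.mem_centralizer_iff.2 fun x hx => cent_comm hgn x (hPC hx) y hy
  · exact (hreg.mem_normalizer_iff h2).2 (hreg.eq_or_inv h2 (hPC ((Subgroup.mem_normalizer_iff.1 hy g).1 hgP))
      (trace_eq_of_isConj (isConj_iff.2 ⟨y, rfl⟩)).symm)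
  · have key : ∀ y : SL(2, F), y ∈ Subgroup.normalizer ((Subgroup.centralizer ({g} : Set SL(2, F))) : Set SL(2, F)) →
        ∀ x ∈ (P : Subgroup SL(2, F)), y * x * y⁻¹ ∈ (P : Subgroup SL(2, F)) := by
      intro y hy x hx
      by_cases hyC : y ∈ Subgroup.centralizer ({g} : Set SL(2, F))
      · rw [cent_comm hgn y hyC x (hPC hx), mul_inv_cancel_right]; exact hx
      · rw [hreg.inverts h2 hy hyC (hPC hx)]; exact inv_mem hx
    refine Subgroup.mem_normalizer_iff.2 fun x => ⟨key y hy x, fun hx => ?_⟩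
    have := key y⁻¹ (inv_mem hy) _ hx
    rwa [show y⁻¹ * (y * x * y⁻¹) * y⁻¹⁻¹ = x by group] at this
  · rcases hreg.card_cases with ⟨-, h⟩ | ⟨-, h⟩
    · exfalso; rw [h] at hdC
      have := Nat.dvd_sub hdC e
      rw [show Fintype.card F + 1 - (Fintype.card F - 1) = 2 by omega] at this
      exact hnot2 this
    · exact h
  · rcases hreg.card_cases with ⟨-, h⟩ | ⟨-, h⟩
    · exact h
    · exfalso; rw [h] at hdC
      have := Nat.dvd_sub e hdC
      rw [show Fintype.card F + 1 - (Fintype.card F - 1) = 2 by omega] at this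
      exact hnot2 this

theorem two_not_dvd (hodd : Odd (Fintype.card F)) : ¬ 2 ∣ Fintype.card F := Nat.two_dvd_ne_zero.2 (Nat.odd_iff.1 hodd)

theorem quaternion_data (hodd : Odd (Fintype.card F)) (S : Sylow 2 SL(2, F)) :
    ∃ a : SL(2, F), a ∈ (S : Subgroup SL(2, F)) ∧ Reg a ∧ 2 * orderOf a = Nat.card S ∧
      (∀ z ∈ (S : Subgroup SL(2, F)), z * a * z⁻¹ ∈ Subgroup.centralizer ({a} : Set SL(2, F))) ∧
      (4 < orderOf a → ∀ z ∈ (S : Subgroup SL(2, F)), orderOf z = orderOf a → z ∈ Subgroup.centralizer ({a} : Set SL(2, F))) ∧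
      ∃ w ∈ (S : Subgroup SL(2, F)), w ∉ Subgroup.centralizer ({a} : Set SL(2, F)) := by
  classical
  obtain ⟨p, hp⟩ := CharP.exists F
  haveI : Fact p.Prime := ⟨CharP.char_is_prime F p⟩
  have h2 := two_ne_zero_of_odd hodd
  have hp2 : p ≠ 2 := by rintro rfl; exact h2 (CharP.cast_eq_zero F 2)
  obtain ⟨k, hk, ⟨e⟩⟩ := Cfsg.Lib.Classical.SLTwoTori.sylow_two_quaternion p hp2 S
  haveI : NeZero (2 ^ k) := ⟨by positivity⟩
  set a0 := e.symm (QuaternionGroup.a 1) with ha0
  have ho : orderOf (a0 : SL(2, F)) = 2 * 2 ^ k := by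
    rw [Subgroup.orderOf_coe, ha0, MulEquiv.orderOf_eq, QuaternionGroup.orderOf_a_one]
  have h4 : 4 ≤ orderOf (a0 : SL(2, F)) := by
    rw [ho]; have : 2 ^ 1 ≤ 2 ^ k := Nat.pow_le_pow_right (by norm_num) hk
    omega
  have hn : NonScalar ((a0 : SL(2, F)) : Matrix (Fin 2) (Fin 2) F) := by
    refine nonScalar_of_ne (fun h => ?_) (fun h => ?_)
    · rw [h, orderOf_one] at h4; omega
    · rw [h] at h4
      have := orderOf_le_of_pow_eq_one (n := 2) (by norm_num) (show (-1 : SL(2, F)) ^ 2 = 1 by simp)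
      omega
  have hcomm : ∀ i : ZMod (2 * 2 ^ k), ((e.symm (QuaternionGroup.a i) : ↥(S : Subgroup SL(2, F))) : SL(2, F)) ∈
      Subgroup.centralizer ({(a0 : SL(2, F))} : Set SL(2, F)) := by
    intro i
    refine Subgroup.mem_centralizer_singleton_iff.2 (congrArg Subtype.val (show e.symm (QuaternionGroup.a i) * a0 = a0 * e.symm (QuaternionGroup.a i) from ?_))
    rw [ha0, ← map_mul, ← map_mul, QuaternionGroup.a_mul_a, QuaternionGroup.a_mul_a, add_comm]
  refine ⟨a0, a0.2, reg_of_dvd_card hn fun h => ?_, ?_, fun z hz => ?_, fun h8 z hz hzo => ?_, ?_⟩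
  · have hd : orderOf (a0 : SL(2, F)) ∣ 2 * Fintype.card F := by
      refine (Subgroup.orderOf_dvd_natCard _ (self_mem_cen (a0 : SL(2, F)))).trans ?_
      rw [h]
      exact mul_dvd_mul_right (Nat.gcd_dvd_left _ _) _
    rw [ho] at hd
    exact two_not_dvd hodd ((dvd_pow_self 2 (by omega)).trans (Nat.dvd_of_mul_dvd_mul_left two_pos hd))
  · rw [ho, Nat.card_congr e.toEquiv, Nat.card_eq_fintype_card, QuaternionGroup.card]; ring
  · obtain ⟨zz, hzz⟩ : ∃ zz : ↥(S : Subgroup SL(2, F)), (zz : SL(2, F)) = z := ⟨⟨z, hz⟩, rfl⟩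
    subst hzz
    have : ∃ i, e (zz * a0 * zz⁻¹) = QuaternionGroup.a i := by
      rw [ha0, map_mul, map_mul, map_inv, MulEquiv.apply_symm_apply]
      rcases e zz with i | i
      · exact ⟨_, rfl⟩
      · exact ⟨_, rfl⟩
    obtain ⟨i, hi⟩ := this
    have := hcomm i
    rwa [← hi, MulEquiv.symm_apply_apply] at this
  · rcases hi : e ⟨z, hz⟩ with i | i
    · have := hcomm i
      rwa [← hi, MulEquiv.symm_apply_apply] at this
    · exfalso
      have : orderOf (e ⟨z, hz⟩) = 4 := by rw [hi, QuaternionGroup.orderOf_xa]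
      rw [MulEquiv.orderOf_eq, Subgroup.orderOf_mk, hzo] at this
      omega
  · refine ⟨(e.symm (QuaternionGroup.xa 0) : ↥(S : Subgroup SL(2, F))), SetLike.coe_mem _, fun h => ?_⟩
    have h' : e.symm (QuaternionGroup.xa 0) * a0 = a0 * e.symm (QuaternionGroup.xa 0) :=
      Subtype.ext (Subgroup.mem_centralizer_singleton_iff.1 h)
    rw [ha0, ← map_mul, ← map_mul, e.symm.injective.eq_iff, QuaternionGroup.xa_mul_a, QuaternionGroup.a_mul_xa] at h'
    have h'' : (2 : ZMod (2 * 2 ^ k)) = 0 := by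
      have := QuaternionGroup.xa.inj h'
      linear_combination this
    have h3 := (ZMod.natCast_eq_zero_iff 2 _).1 (by exact_mod_cast h'' : (((2 : ℕ)) : ZMod (2 * 2 ^ k)) = 0)
    have h5 := Nat.le_of_dvd two_pos h3
    have : 2 ^ 1 ≤ 2 ^ k := Nat.pow_le_pow_right (by norm_num) hk
    omega

theorem sylow_two_centralizer (hodd : Odd (Fintype.card F)) (S : Sylow 2 SL(2, F)) :
    Subgroup.centralizer ((S : Subgroup SL(2, F)) : Set SL(2, F)) = Subgroup.center SL(2, F) := by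
  obtain ⟨a, haS, -, -, -, -, w, hwS, hwC⟩ := quaternion_data hodd S
  refine le_antisymm (fun z hz => (mem_center_iff_pm z).2 ?_) (Subgroup.center_le_centralizer _)
  by_contra h
  push Not at h
  have hzn := nonScalar_of_ne h.1 h.2
  have hS : ∀ x ∈ (S : Subgroup SL(2, F)), x ∈ Subgroup.centralizer ({z} : Set SL(2, F)) := fun x hx =>
    Subgroup.mem_centralizer_singleton_iff.2 (Subgroup.mem_centralizer_iff.1 hz x hx)
  exact hwC (Subgroup.mem_centralizer_singleton_iff.2 (cent_comm hzn w (hS w hwS) a (hS a haS)))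

/-- An element of the normalizer of a Sylow 2-subgroup that lies in the torus is a 2-element. -/
theorem torus_normalizer_two {S : Sylow 2 SL(2, F)} (h2 : (2 : F) ≠ 0) {a w y : SL(2, F)} (hreg : Reg a)
    (hw : w ∈ (S : Subgroup SL(2, F))) (hwC : w ∉ Subgroup.centralizer ({a} : Set SL(2, F)))
    (hwN : w ∈ Subgroup.normalizer ((Subgroup.centralizer ({a} : Set SL(2, F))) : Set SL(2, F)))
    (hy : y ∈ Subgroup.normalizer ((S : Subgroup SL(2, F)) : Set SL(2, F)))
    (hyC : y ∈ Subgroup.centralizer ({a} : Set SL(2, F))) : y ∈ (S : Subgroup SL(2, F)) := by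
  have h1 : y * w * y⁻¹ ∈ (S : Subgroup SL(2, F)) := (Subgroup.mem_normalizer_iff.1 hy w).1 hw
  have h3 : y * y ∈ (S : Subgroup SL(2, F)) := by
    have e := hreg.inverts h2 hwN hwC hyC
    have : y * y = y * w * y⁻¹ * w⁻¹ := by
      calc y * y = y * (w * y * w⁻¹)⁻¹ := by rw [e, inv_inv]
        _ = _ := by group
    rw [this]; exact mul_mem h1 (inv_mem hw)
  obtain ⟨k, hk⟩ := IsPGroup.iff_orderOf.1 S.isPGroup' ⟨_, h3⟩
  have hy2 : y ^ (2 ^ (k + 1)) = 1 := by
    rw [pow_succ', pow_mul, ← hk, sq, Subgroup.orderOf_mk]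
    exact pow_orderOf_eq_one _
  have hQ : IsPGroup 2 ↥(Subgroup.zpowers y) := by
    obtain ⟨j, -, hj⟩ := (Nat.dvd_prime_pow Nat.prime_two).1 (orderOf_dvd_of_pow_eq_one hy2)
    exact IsPGroup.of_card (n := j) ((Nat.card_zpowers y).trans hj)
  have := hQ.inf_normalizer_sylow S
  exact (this.le ⟨Subgroup.mem_zpowers y, hy⟩).2

theorem pow_dvd_card_of_mod {q : ℕ} (hq : q % 8 = 1 ∨ q % 8 = 7) : 2 ^ 4 ∣ q * (q ^ 2 - 1) := by
  refine Dvd.dvd.mul_left ?_ q
  obtain ⟨s, hs | hs⟩ : ∃ s, q = 8 * s + 1 ∨ q = 8 * s + 7 := ⟨q / 8, by omega⟩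
  · exact ⟨4 * s ^ 2 + s, by subst hs; rw [Nat.sub_eq_iff_eq_add (Nat.one_le_pow _ _ (by omega))]; ring⟩
  · exact ⟨4 * s ^ 2 + 7 * s + 3, by subst hs; rw [Nat.sub_eq_iff_eq_add (Nat.one_le_pow _ _ (by omega))]; ring⟩

theorem sylow_two_normalizer_big (hodd : Odd (Fintype.card F))
    (hq : Fintype.card F % 8 = 1 ∨ Fintype.card F % 8 = 7) (S : Sylow 2 SL(2, F)) :
    Subgroup.normalizer ((S : Subgroup SL(2, F)) : Set SL(2, F)) = (S : Subgroup SL(2, F)) := by
  classical
  have h2 := two_ne_zero_of_odd hodd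
  obtain ⟨a, haS, hreg, hcard, hS, hbig, w, hwS, hwC⟩ := quaternion_data hodd S
  have h16 : 16 ≤ Nat.card S := Nat.le_of_dvd Nat.card_pos
    (S.pow_dvd_card_of_pow_dvd_card (n := 4) (by rw [Cfsg.Lib.Classical.SLTwoTori.card_SL2]; exact pow_dvd_card_of_mod hq))
  have hN : ∀ y ∈ Subgroup.normalizer ((S : Subgroup SL(2, F)) : Set SL(2, F)),
      y ∈ Subgroup.normalizer ((Subgroup.centralizer ({a} : Set SL(2, F))) : Set SL(2, F)) := by
    intro y hy
    refine (hreg.mem_normalizer_iff h2).2 (hreg.eq_or_inv h2 (hbig (by omega) _ ((Subgroup.mem_normalizer_iff.1 hy a).1 haS) ?_)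
      (trace_eq_of_isConj (isConj_iff.2 ⟨y, rfl⟩)).symm)
    exact orderOf_injective (MulAut.conj y).toMonoidHom (MulEquiv.injective _) a
  refine S.is_maximal' ?_ Subgroup.le_normalizer
  intro ⟨y, hy⟩
  by_cases hyC : y ∈ Subgroup.centralizer ({a} : Set SL(2, F))
  · obtain ⟨k, hk⟩ := S.isPGroup' ⟨y, torus_normalizer_two h2 hreg hwS hwC (hN w (Subgroup.le_normalizer hwS)) hy hyC⟩
    exact ⟨k, Subtype.ext (by simpa using congrArg Subtype.val hk)⟩
  · refine ⟨2, Subtype.ext ?_⟩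
    have := hreg.sq_eq h2 (hN y hy) hyC
    show y ^ (2 ^ 2) = 1
    rw [show (2 : ℕ) ^ 2 = 2 * 2 from rfl, pow_mul, sq y, this]; simp

theorem exists_three (hodd : Odd (Fintype.card F)) (h8 : ∀ S : Sylow 2 SL(2, F), Nat.card S = 8) :
    ∃ S : Sylow 2 SL(2, F), 3 ∣ Nat.card ↥(Subgroup.normalizer ((S : Subgroup SL(2, F)) : Set SL(2, F))) := by
  classical
  have h2 := two_ne_zero_of_odd hodd
  obtain ⟨a, b, hab⟩ : ∃ a b : F, a ^ 2 + b ^ 2 = -1 := by
    obtain ⟨p, hp⟩ := CharP.exists F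
    haveI : NeZero p := ⟨(CharP.char_is_prime F p).ne_zero⟩
    obtain ⟨a, b, hab⟩ := CharP.sq_add_sq F p (-1)
    exact ⟨a, b, by simpa using hab⟩
  obtain ⟨i, hi⟩ : ∃ i : SL(2, F), (i : Matrix (Fin 2) (Fin 2) F) = !![0, 1; -1, 0] :=
    ⟨⟨!![0, 1; -1, 0], by simp [Matrix.det_fin_two]⟩, rfl⟩
  obtain ⟨j, hj⟩ : ∃ j : SL(2, F), (j : Matrix (Fin 2) (Fin 2) F) = !![a, b; b, -a] :=
    ⟨⟨!![a, b; b, -a], by simp [Matrix.det_fin_two]; linear_combination -hab⟩, rfl⟩
  obtain ⟨u, hu⟩ : ∃ u : SL(2, F), (u : Matrix (Fin 2) (Fin 2) F) =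
      (2 : F)⁻¹ • !![-1 + a + b, 1 + b - a; -1 + b - a, -1 - a - b] :=
    ⟨⟨(2 : F)⁻¹ • !![-1 + a + b, 1 + b - a; -1 + b - a, -1 - a - b], by
      simp [Matrix.det_fin_two]; field_simp; linear_combination (-2 : F) * hab⟩, rfl⟩
  have hui : u * i = i * j * u := by
    refine Subtype.ext ?_
    simp only [Matrix.SpecialLinearGroup.coe_mul, hi, hj, hu]
    ext r s; fin_cases r <;> fin_cases s <;> simp [Matrix.mul_apply, Fin.sum_univ_two] <;> field_simp <;>
      first | linear_combination hab | linear_combination -hab | ring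
  have huj : u * j = i * u := by
    refine Subtype.ext ?_
    simp only [Matrix.SpecialLinearGroup.coe_mul, hi, hj, hu]
    ext r s; fin_cases r <;> fin_cases s <;> simp [Matrix.mul_apply, Fin.sum_univ_two] <;> field_simp <;>
      first | linear_combination hab | linear_combination -hab | ring
  have hu3 : u ^ 3 = 1 := by
    have hsq : u * u = u⁻¹ := by
      refine Subtype.ext ?_
      rw [Matrix.SpecialLinearGroup.coe_inv]
      simp only [Matrix.SpecialLinearGroup.coe_mul, hu, Matrix.adjugate_fin_two]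
      ext r s; fin_cases r <;> fin_cases s <;> simp [Matrix.mul_apply, Fin.sum_univ_two] <;> field_simp <;>
        first | linear_combination (2 : F) * hab | linear_combination (-2 : F) * hab | ring
    rw [pow_succ, sq, hsq, inv_mul_cancel]
  have hne : i * j ≠ j * i := by
    intro h
    have h' := congrArg (fun m : SL(2, F) => (m : Matrix (Fin 2) (Fin 2) F)) h
    simp only [Matrix.SpecialLinearGroup.coe_mul, hi, hj] at h'
    have h0 := congrFun (congrFun h' 0) 0
    have h1 := congrFun (congrFun h' 0) 1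
    simp [Matrix.mul_apply, Fin.sum_univ_two] at h0 h1
    have hb0 : b = 0 := (mul_eq_zero.mp (show 2 * b = 0 by linear_combination h0)).resolve_left h2
    have ha0 : a = 0 := (mul_eq_zero.mp (show 2 * a = 0 by linear_combination -h1)).resolve_left h2
    simp [ha0, hb0] at hab
  have hu1 : u ≠ 1 := fun h => hne (by
    rw [h, one_mul, mul_one] at hui huj
    rw [huj])
  have hI : i * i = -1 := by
    refine Subtype.ext ?_
    simp only [Matrix.SpecialLinearGroup.coe_mul, hi, Matrix.SpecialLinearGroup.coe_neg, Matrix.SpecialLinearGroup.coe_one]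
    ext r s; fin_cases r <;> fin_cases s <;> simp [Matrix.mul_apply, Fin.sum_univ_two]
  have hJ : j * j = -1 := by
    refine Subtype.ext ?_
    simp only [Matrix.SpecialLinearGroup.coe_mul, hj, Matrix.SpecialLinearGroup.coe_neg, Matrix.SpecialLinearGroup.coe_one]
    ext r s; fin_cases r <;> fin_cases s <;> simp [Matrix.mul_apply, Fin.sum_univ_two] <;>
      first | linear_combination hab | ring
  have hji : j * i = -(i * j) := by
    refine Subtype.ext ?_
    simp only [Matrix.SpecialLinearGroup.coe_mul, hi, hj, Matrix.SpecialLinearGroup.coe_neg]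
    ext r s; fin_cases r <;> fin_cases s <;> simp [Matrix.mul_apply, Fin.sum_univ_two]
  set Q := Subgroup.closure ({i, j} : Set SL(2, F)) with hQdef
  have hiQ : i ∈ Q := Subgroup.subset_closure (by simp)
  have hjQ : j ∈ Q := Subgroup.subset_closure (by simp)
  -- Q is a 2-group: its elements square into the centre
  let Z := Subgroup.center SL(2, F)
  have hQ : IsPGroup 2 ↥Q := by
    let π := QuotientGroup.mk' Z
    have hm1 : π (-1) = 1 := (QuotientGroup.eq_one_iff _).mpr ((mem_center_iff_pm _).2 (.inr rfl))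
    have hc : Commute (π i) (π j) := by
      show π i * π j = π j * π i
      rw [← map_mul, ← map_mul, hji, ← neg_one_mul, map_mul π (-1) (i * j), hm1, one_mul]
    haveI : IsMulCommutative (Subgroup.closure ({π i, π j} : Set (SL(2, F) ⧸ Z))) :=
      Subgroup.isMulCommutative_closure (by rintro x (rfl | rfl) y (rfl | rfl) <;> first | rfl | exact hc | exact hc.symm)
    intro x
    refine ⟨2, Subtype.ext ?_⟩
    have hx' : π (x : SL(2, F)) ∈ Subgroup.closure ({π i, π j} : Set (SL(2, F) ⧸ Z)) := by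
      have := Subgroup.mem_map_of_mem π x.2
      rwa [MonoidHom.map_closure, Set.image_pair] at this
    have key : ∀ w ∈ Subgroup.closure ({π i, π j} : Set (SL(2, F) ⧸ Z)), w * w = 1 := by
      intro w hw
      induction hw using Subgroup.closure_induction with
      | mem y hy =>
        rcases hy with rfl | rfl
        · rw [← map_mul, hI, hm1]
        · rw [← map_mul, hJ, hm1]
      | one => exact one_mul 1
      | mul y z hy hz ihy ihz =>
        have hyz : y * z = z * y := congrArg Subtype.val (mul_comm' (⟨y, hy⟩ : Subgroup.closure _) ⟨z, hz⟩)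
        rw [mul_assoc, ← mul_assoc z, ← hyz, mul_assoc y z, ← mul_assoc, ihy, one_mul, ihz]
      | inv y _ ih => rw [← _root_.mul_inv_rev, ih, inv_one]
    have h := key _ hx'
    rw [← map_mul] at h
    show (x : SL(2, F)) ^ (2 ^ 2) = 1
    rw [show (2 : ℕ) ^ 2 = 2 * 2 from rfl, pow_mul, sq (x : SL(2, F))]
    rcases (mem_center_iff_pm _).1 ((QuotientGroup.eq_one_iff _).1 h) with e | e <;> rw [e] <;> simp
  obtain ⟨S, hQS⟩ := hQ.exists_le_sylow
  have heq : Q = (S : Subgroup SL(2, F)) := by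
    refine Subgroup.eq_of_le_of_card_ge hQS ?_
    have hi1 : i ≠ 1 := fun h => hne (by rw [h, one_mul, mul_one])
    have hj1 : j ≠ 1 := fun h => hne (by rw [h, one_mul, mul_one])
    have hij : i ≠ j := fun h => hne (by rw [h])
    have h5 : ({1, i, j, i * j, j * i} : Finset SL(2, F)).card = 5 := by
      have e1 : i * j ≠ 1 := fun h => hne (by
        rw [h, show j = i⁻¹ from (inv_eq_of_mul_eq_one_right h).symm, inv_mul_cancel])
      have e2 : j * i ≠ 1 := fun h => hne (by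
        rw [h, show j = i⁻¹ from (inv_eq_of_mul_eq_one_left h).symm, mul_inv_cancel])
      have e3 : i ≠ i * j := fun h => hj1 (mul_eq_left.1 h.symm)
      have e4 : i ≠ j * i := fun h => hj1 (mul_eq_right.1 h.symm)
      have e5 : j ≠ i * j := fun h => hi1 (mul_eq_right.1 h.symm)
      have e6 : j ≠ j * i := fun h => hi1 (mul_eq_left.1 h.symm)
      simp [Finset.card_insert_of_notMem, hi1.symm, hj1.symm, hij, e1.symm, e2.symm, e3, e4, e5, e6, hne]
    have hsub : ∀ x ∈ ({1, i, j, i * j, j * i} : Finset SL(2, F)), x ∈ Q := by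
      simp only [Finset.mem_insert, Finset.mem_singleton]
      rintro x (rfl | rfl | rfl | rfl | rfl)
      exacts [one_mem _, hiQ, hjQ, mul_mem hiQ hjQ, mul_mem hjQ hiQ]
    have hge : 5 ≤ Nat.card ↥Q := by
      rw [← h5, ← Nat.card_eq_finsetCard]
      exact Nat.card_le_card_of_injective (fun x => (⟨x.1, hsub x.1 x.2⟩ : ↥Q)) fun x y h => Subtype.ext (congrArg (fun z : ↥Q => (z : SL(2, F))) h :)
    rw [h8 S]
    obtain ⟨n, hn, hn'⟩ := (Nat.dvd_prime_pow Nat.prime_two).1
      (show Nat.card ↥Q ∣ 2 ^ 3 by rw [show (2 : ℕ) ^ 3 = 8 from rfl, ← h8 S]; exact Subgroup.card_dvd_of_le hQS)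
    rcases (show n = 0 ∨ n = 1 ∨ n = 2 ∨ n = 3 by omega) with rfl | rfl | rfl | rfl <;> simp_all
  refine ⟨S, ?_⟩
  have hmem : u ∈ Subgroup.normalizer ((S : Subgroup SL(2, F)) : Set SL(2, F)) := by
    rw [← heq]
    have hle : Q.map (MulAut.conj u).toMonoidHom ≤ Q := by
      rw [hQdef, MonoidHom.map_closure, Subgroup.closure_le]
      rintro _ ⟨x, (rfl | rfl), rfl⟩
      · simp [hui, mul_mem hiQ hjQ, ← hQdef]
      · simp [huj, hiQ, ← hQdef]
    have he : Q.map (MulAut.conj u).toMonoidHom = Q :=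
      Subgroup.eq_of_le_of_card_ge hle (Subgroup.card_map_of_injective (MulEquiv.injective _)).ge
    refine Subgroup.mem_normalizer_iff.2 fun x => ?_
    conv_rhs => rw [← he]
    simp [Subgroup.mem_map]
  rw [← orderOf_eq_prime hu3 hu1]
  exact Subgroup.orderOf_dvd_natCard _ hmem

theorem sylow_two_normalizer_small (hodd : Odd (Fintype.card F))
    (hq : Fintype.card F % 8 = 3 ∨ Fintype.card F % 8 = 5) (S : Sylow 2 SL(2, F)) :
    Nat.card ↥(Subgroup.normalizer ((S : Subgroup SL(2, F)) : Set SL(2, F))) = 3 * Nat.card S := by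
  classical
  have h2 := two_ne_zero_of_odd hodd
  obtain ⟨m, hm, hm'⟩ : ∃ m, Odd m ∧ Fintype.card F * (Fintype.card F ^ 2 - 1) = 8 * m := by
    obtain ⟨s, hs⟩ : ∃ s, Fintype.card F = 8 * s + 3 ∨ Fintype.card F = 8 * s + 5 := ⟨Fintype.card F / 8, by omega⟩
    rcases hs with hs | hs <;> rw [hs]
    · exact ⟨(8 * s + 3) * (8 * s ^ 2 + 6 * s + 1), by simp [parity_simps, Nat.even_pow],
        by zify [show 1 ≤ (8 * s + 3) ^ 2 from Nat.one_le_pow _ _ (by omega)]; ring⟩
    · exact ⟨(8 * s + 5) * (8 * s ^ 2 + 10 * s + 3), by simp [parity_simps, Nat.even_pow],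
        by zify [show 1 ≤ (8 * s + 5) ^ 2 from Nat.one_le_pow _ _ (by omega)]; ring⟩
  have h8 : ∀ S : Sylow 2 SL(2, F), Nat.card S = 8 := fun S => by
    rw [S.card_eq_multiplicity, Cfsg.Lib.Classical.SLTwoTori.card_SL2, hm', show (8 : ℕ) = 2 ^ 3 from rfl,
      Nat.factorization_mul (by norm_num) (by intro h0; rw [h0] at hm; exact Nat.not_odd_zero hm),
      Nat.Prime.factorization_pow Nat.prime_two]
    simp [Nat.factorization_eq_zero_of_not_dvd (show ¬ 2 ∣ m from fun h => by rw [Nat.odd_iff] at hm; omega)]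
  obtain ⟨S0, hS0⟩ := exists_three hodd h8
  have hN : Nat.card ↥(Subgroup.normalizer ((S : Subgroup SL(2, F)) : Set SL(2, F))) =
      Nat.card ↥(Subgroup.normalizer ((S0 : Subgroup SL(2, F)) : Set SL(2, F))) := by
    have e1 := Subgroup.card_mul_index (Subgroup.normalizer ((S : Subgroup SL(2, F)) : Set SL(2, F)))
    have e2 := Subgroup.card_mul_index (Subgroup.normalizer ((S0 : Subgroup SL(2, F)) : Set SL(2, F)))
    rw [show (Subgroup.normalizer ((S : Subgroup SL(2, F)) : Set SL(2, F))).index = Nat.card (Sylow 2 SL(2, F)) from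
      S.card_eq_index_normalizer.symm] at e1
    rw [show (Subgroup.normalizer ((S0 : Subgroup SL(2, F)) : Set SL(2, F))).index = Nat.card (Sylow 2 SL(2, F)) from
      S0.card_eq_index_normalizer.symm] at e2
    exact Nat.eq_of_mul_eq_mul_right Nat.card_pos (e1.trans e2.symm)
  have h3 : 3 ∣ Nat.card ↥(Subgroup.normalizer ((S : Subgroup SL(2, F)) : Set SL(2, F))) := hN ▸ hS0
  have h88 : 8 ∣ Nat.card ↥(Subgroup.normalizer ((S : Subgroup SL(2, F)) : Set SL(2, F))) :=
    h8 S ▸ Subgroup.card_dvd_of_le Subgroup.le_normalizer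
  obtain ⟨a, haS, hreg, -, hS, -, w, hwS, hwC⟩ := quaternion_data hodd S
  have hwN : w ∈ Subgroup.normalizer ((Subgroup.centralizer ({a} : Set SL(2, F))) : Set SL(2, F)) :=
    (hreg.mem_normalizer_iff h2).2 (hreg.eq_or_inv h2 (hS w hwS) (trace_eq_of_isConj (isConj_iff.2 ⟨w, rfl⟩)).symm)
  set N := Subgroup.normalizer ((S : Subgroup SL(2, F)) : Set SL(2, F))
  set I : Subgroup SL(2, F) := (S : Subgroup SL(2, F)) ⊓ Subgroup.centralizer ({a} : Set SL(2, F))
  have hI : Nat.card ↥I ≤ 4 := by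
    have hlt : Nat.card ↥I ≠ 8 := fun h => hwC (by
      have : I = (S : Subgroup SL(2, F)) := Subgroup.eq_of_le_of_card_ge inf_le_left (by rw [h]; exact (h8 S).le)
      exact (this.symm ▸ hwS : w ∈ I).2)
    obtain ⟨n, hn, hn'⟩ := (Nat.dvd_prime_pow Nat.prime_two).1
      (show Nat.card ↥I ∣ 2 ^ 3 by rw [show (2 : ℕ) ^ 3 = 8 from rfl, ← h8 S]; exact Subgroup.card_dvd_of_le inf_le_left)
    rcases (show n = 0 ∨ n = 1 ∨ n = 2 ∨ n = 3 by omega) with rfl | rfl | rfl | rfl <;> simp_all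
  let f : ↥N → SL(2, F) := fun y => (y : SL(2, F)) * a * (y : SL(2, F))⁻¹
  let T := (Finset.univ.filter fun x : SL(2, F) => x ∈ (S : Subgroup SL(2, F))) \ {1, -1}
  have hneS : (-1 : SL(2, F)) ∈ (S : Subgroup SL(2, F)) := by
    have h := hreg.sq_eq h2 hwN hwC
    rw [← h]; exact mul_mem hwS hwS
  have hne : (-1 : SL(2, F)) ≠ 1 := fun h => by
    have := congrArg (fun z : SL(2, F) => (z : Matrix (Fin 2) (Fin 2) F) 0 0) h
    simp at this
    exact h2 (by linear_combination -this)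
  have hT : T.card = 6 := by
    rw [Finset.card_sdiff_of_subset (by
      intro x hx; simp only [Finset.mem_insert, Finset.mem_singleton] at hx
      rcases hx with rfl | rfl <;> simp [hneS, one_mem]),
      Finset.card_pair hne.symm, ← Fintype.card_subtype, ← Nat.card_eq_fintype_card]
    show Nat.card ↥(S : Subgroup SL(2, F)) - 2 = 6
    rw [show Nat.card ↥(S : Subgroup SL(2, F)) = 8 from h8 S]
  have hbound := Finset.card_le_mul_card_image (f := f) (Finset.univ : Finset ↥N) 4 (fun z hz => by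
    obtain ⟨y0, -, rfl⟩ := Finset.mem_image.1 hz
    refine le_trans ?_ hI
    rw [← Fintype.card_subtype, ← Nat.card_eq_fintype_card]
    refine Nat.card_le_card_of_injective (fun y => (⟨(y0 : SL(2, F))⁻¹ * ((y.1 : ↥N) : SL(2, F)), ?_⟩ : ↥I))
      fun y y' h => Subtype.ext (Subtype.ext (mul_left_cancel (congrArg Subtype.val h)))
    have hC : (y0 : SL(2, F))⁻¹ * ((y.1 : ↥N) : SL(2, F)) ∈ Subgroup.centralizer ({a} : Set SL(2, F)) := by
      refine mem_cen_iff_conj.2 ?_
      have e : ((y.1 : ↥N) : SL(2, F)) * a * ((y.1 : ↥N) : SL(2, F))⁻¹ = (y0 : SL(2, F)) * a * (y0 : SL(2, F))⁻¹ := y.2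
      calc _ = (y0 : SL(2, F))⁻¹ * (((y.1 : ↥N) : SL(2, F)) * a * ((y.1 : ↥N) : SL(2, F))⁻¹) * (y0 : SL(2, F)) := by group
        _ = a := by rw [e]; group
    exact ⟨torus_normalizer_two h2 hreg hwS hwC hwN (mul_mem (inv_mem y0.2) y.1.2) hC, hC⟩)
  have himg : (Finset.univ.image f).card ≤ T.card := Finset.card_le_card fun z hz => by
    obtain ⟨y, -, rfl⟩ := Finset.mem_image.1 hz
    have h1 : f y ∈ (S : Subgroup SL(2, F)) := (Subgroup.mem_normalizer_iff.1 y.2 a).1 haS
    have h4 : NonScalar (a : Matrix (Fin 2) (Fin 2) F) := hreg.1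
    simp only [T, Finset.mem_sdiff, Finset.mem_filter, Finset.mem_univ, true_and, Finset.mem_insert, Finset.mem_singleton]
    refine ⟨h1, fun h => not_nonScalar_pm (g := a) ?_ h4⟩
    have ea : a = (y : SL(2, F))⁻¹ * f y * (y : SL(2, F)) := by show a = _ * ((y : SL(2, F)) * a * (y : SL(2, F))⁻¹) * _; group
    rcases h with h | h <;> rw [h] at ea
    · left; rw [ea]; group
    · right; rw [ea]; simp
  rw [Finset.card_univ, ← Nat.card_eq_fintype_card] at hbound
  rw [hT] at himg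
  rw [h8 S]
  have hle : Nat.card ↥N ≤ 4 * 6 := hbound.trans (Nat.mul_le_mul_left 4 himg)
  have h24 : 24 ∣ Nat.card ↥N := Nat.Coprime.mul_dvd_of_dvd_of_dvd (show Nat.Coprime 8 3 by norm_num) h88 h3
  exact le_antisymm hle (Nat.le_of_dvd Nat.card_pos h24)

end Cfsg.Lib.GLTwo
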