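import Mathlib

/-! Non-scalar 2×2 matrices: companion form, centralizers, and conjugacy in GL₂ and SL₂. -/

set_option autoImplicit false
set_option linter.unusedSectionVars false

open Matrix

namespace Cfsg.Lib.GLTwo

variable {F : Type*} [Field F]

/-- The matrix is not a scalar matrix. -/
def NonScalar (A : Matrix (Fin 2) (Fin 2) F) : Prop := ¬ (A 0 1 = 0 ∧ A 1 0 = 0 ∧ A 0 0 = A 1 1)

/-- The companion matrix with trace `t` and determinant `d`. -/
def comp (t d : F) : Matrix (Fin 2) (Fin 2) F := !![0, -d; 1, t]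

theorem nonScalar_comp (t d : F) : NonScalar (comp t d) := fun h => by simpa [comp] using h.2.1

theorem trace_comp (t d : F) : (comp t d).trace = t := by simp [comp, Matrix.trace_fin_two]

theorem det_comp (t d : F) : (comp t d).det = d := by simp [comp, Matrix.det_fin_two]

theorem eq_smul_one {A : Matrix (Fin 2) (Fin 2) F} (h : ¬ NonScalar A) :
    A = A 0 0 • (1 : Matrix (Fin 2) (Fin 2) F) := by
  obtain ⟨h01, h10, h11⟩ := not_not.1 h
  ext i j; fin_cases i <;> fin_cases j <;> simp [h01, h10, h11]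

theorem not_nonScalar_smul (c : F) : ¬ NonScalar (c • (1 : Matrix (Fin 2) (Fin 2) F)) :=
  not_not.2 ⟨by simp, by simp, by simp⟩

theorem exists_intertwine {A : Matrix (Fin 2) (Fin 2) F} (hA : NonScalar A) :
    ∃ P : Matrix (Fin 2) (Fin 2) F, P.det ≠ 0 ∧ A * P = P * comp A.trace A.det := by
  by_cases h10 : A 1 0 = 0
  swap
  · refine ⟨!![1, A 0 0; 0, A 1 0], by simp [Matrix.det_fin_two, h10], ?_⟩
    ext i j; fin_cases i <;> fin_cases j <;>
      simp [comp, Matrix.mul_apply, Fin.sum_univ_two, Matrix.det_fin_two, Matrix.trace_fin_two] <;> ring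
  by_cases h01 : A 0 1 = 0
  swap
  · refine ⟨!![0, A 0 1; 1, A 1 1], by simp [Matrix.det_fin_two, h01], ?_⟩
    ext i j; fin_cases i <;> fin_cases j <;>
      simp [comp, Matrix.mul_apply, Fin.sum_univ_two, Matrix.det_fin_two, Matrix.trace_fin_two] <;> ring
  have h : A 0 0 ≠ A 1 1 := fun h => hA ⟨h01, h10, h⟩
  refine ⟨!![1, A 0 0; 1, A 1 1], by simp [Matrix.det_fin_two, sub_ne_zero, Ne.symm h], ?_⟩
  ext i j; fin_cases i <;> fin_cases j <;>
    simp [comp, Matrix.mul_apply, Fin.sum_univ_two, Matrix.det_fin_two, Matrix.trace_fin_two, h10, h01] <;> ring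

/-- `a + b A`. -/
def combo (A : Matrix (Fin 2) (Fin 2) F) (a b : F) : Matrix (Fin 2) (Fin 2) F :=
  a • (1 : Matrix (Fin 2) (Fin 2) F) + b • A

theorem det_combo (A : Matrix (Fin 2) (Fin 2) F) (a b : F) :
    (combo A a b).det = a * a + A.trace * a * b + A.det * b * b := by
  simp [combo, Matrix.det_fin_two, Matrix.trace_fin_two]; ring

theorem combo_comm (A : Matrix (Fin 2) (Fin 2) F) (a b : F) : combo A a b * A = A * combo A a b := by
  simp [combo, add_mul, mul_add]

theorem combo_inj {A : Matrix (Fin 2) (Fin 2) F} (hA : NonScalar A) {a b a' b' : F}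
    (h : combo A a b = combo A a' b') : a = a' ∧ b = b' := by
  have e00 := congrFun (congrFun h 0) 0
  have e01 := congrFun (congrFun h 0) 1
  have e10 := congrFun (congrFun h 1) 0
  have e11 := congrFun (congrFun h 1) 1
  simp [combo] at e00 e01 e10 e11
  have hb : b = b' := by
    by_contra hne
    refine hA ⟨?_, ?_, ?_⟩
    · exact e01.resolve_left hne
    · exact e10.resolve_left hne
    · exact mul_left_cancel₀ (sub_ne_zero.2 hne) (by linear_combination e00 - e11)
  subst hb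
  exact ⟨add_right_cancel e00, rfl⟩

theorem exists_combo {A B : Matrix (Fin 2) (Fin 2) F} (hA : NonScalar A) (h : B * A = A * B) :
    ∃ a b, B = combo A a b := by
  have e00 := congrFun (congrFun h 0) 0
  have e01 := congrFun (congrFun h 0) 1
  have e10 := congrFun (congrFun h 1) 0
  simp only [Matrix.mul_apply, Fin.sum_univ_two] at e00 e01 e10
  by_cases h10 : A 1 0 = 0
  swap
  · refine ⟨B 0 0 - B 1 0 / A 1 0 * A 0 0, B 1 0 / A 1 0, ?_⟩
    ext i j; fin_cases i <;> fin_cases j <;> simp [combo] <;> field_simp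
    · linear_combination e00
    · linear_combination e10
  by_cases h01 : A 0 1 = 0
  swap
  · refine ⟨B 0 0 - B 0 1 / A 0 1 * A 0 0, B 0 1 / A 0 1, ?_⟩
    have hB10 : B 1 0 = 0 := by
      rw [h10] at e00
      exact (mul_eq_zero.1 (by linear_combination -e00 : A 0 1 * B 1 0 = 0)).resolve_left h01
    ext i j; fin_cases i <;> fin_cases j <;> simp [combo, h10, hB10] <;> field_simp
    · linear_combination -e01
  have hne : A 1 1 - A 0 0 ≠ 0 := sub_ne_zero.2 fun h => hA ⟨h01, h10, h.symm⟩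
  have hB01 : B 0 1 = 0 := by
    rw [h01] at e01
    exact (mul_eq_zero.1 (by linear_combination e01 : (A 1 1 - A 0 0) * B 0 1 = 0)).resolve_left hne
  have hB10 : B 1 0 = 0 := by
    rw [h10] at e10
    exact (mul_eq_zero.1 (by linear_combination -e10 : (A 1 1 - A 0 0) * B 1 0 = 0)).resolve_left hne
  refine ⟨B 0 0 - (B 1 1 - B 0 0) / (A 1 1 - A 0 0) * A 0 0, (B 1 1 - B 0 0) / (A 1 1 - A 0 0), ?_⟩
  ext i j; fin_cases i <;> fin_cases j <;> simp [combo, h10, h01, hB01, hB10] <;> field_simp <;> ring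

/-- Two non-scalar elements of GL₂ with equal trace and determinant are conjugate. -/
theorem exists_conj {g h : GL (Fin 2) F} (hg : NonScalar (g : Matrix (Fin 2) (Fin 2) F))
    (hh : NonScalar (h : Matrix (Fin 2) (Fin 2) F))
    (ht : (g : Matrix (Fin 2) (Fin 2) F).trace = (h : Matrix (Fin 2) (Fin 2) F).trace)
    (hd : (g : Matrix (Fin 2) (Fin 2) F).det = (h : Matrix (Fin 2) (Fin 2) F).det) :
    ∃ P : GL (Fin 2) F, P * g * P⁻¹ = h := by
  obtain ⟨P, hP, hP'⟩ := exists_intertwine hg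
  obtain ⟨Q, hQ, hQ'⟩ := exists_intertwine hh
  rw [ht, hd] at hP'
  set C := comp (h : Matrix (Fin 2) (Fin 2) F).trace (h : Matrix (Fin 2) (Fin 2) F).det
  let P' := Matrix.GeneralLinearGroup.mkOfDetNeZero P hP
  let Q' := Matrix.GeneralLinearGroup.mkOfDetNeZero Q hQ
  refine ⟨Q' * P'⁻¹, ?_⟩
  have e1 : ((P'⁻¹ * g * P' : GL (Fin 2) F) : Matrix (Fin 2) (Fin 2) F) = C := by
    rw [Units.val_mul, Units.val_mul, mul_assoc, show (P' : Matrix (Fin 2) (Fin 2) F) = P from rfl, hP',
      ← mul_assoc, show P = (P' : Matrix (Fin 2) (Fin 2) F) from rfl, Units.inv_mul, one_mul]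
  have e2 : ((Q'⁻¹ * h * Q' : GL (Fin 2) F) : Matrix (Fin 2) (Fin 2) F) = C := by
    rw [Units.val_mul, Units.val_mul, mul_assoc, show (Q' : Matrix (Fin 2) (Fin 2) F) = Q from rfl, hQ',
      ← mul_assoc, show Q = (Q' : Matrix (Fin 2) (Fin 2) F) from rfl, Units.inv_mul, one_mul]
  have e : P'⁻¹ * g * P' = Q'⁻¹ * h * Q' := Units.ext (e1.trans e2.symm)
  calc Q' * P'⁻¹ * g * (Q' * P'⁻¹)⁻¹ = Q' * (P'⁻¹ * g * P') * Q'⁻¹ := by group
    _ = h := by rw [e]; group

variable (F) in
/-- The pairs giving invertible combinations. -/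
def Good (t d : F) : Type _ := {ab : F × F // ab.1 * ab.1 + t * ab.1 * ab.2 + d * ab.2 * ab.2 ≠ 0}

/-- The map onto the centralizer. -/
def toCent (g : GL (Fin 2) F)
    (ab : Good F (g : Matrix (Fin 2) (Fin 2) F).trace (g : Matrix (Fin 2) (Fin 2) F).det) :
    ↥(Subgroup.centralizer ({g} : Set (GL (Fin 2) F))) :=
  ⟨Matrix.GeneralLinearGroup.mkOfDetNeZero (combo (g : Matrix (Fin 2) (Fin 2) F) ab.1.1 ab.1.2)
    (by rw [det_combo]; exact ab.2),
    Subgroup.mem_centralizer_singleton_iff.2 (Units.ext (combo_comm _ _ _))⟩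

theorem toCent_bijective {g : GL (Fin 2) F} (hg : NonScalar (g : Matrix (Fin 2) (Fin 2) F)) :
    Function.Bijective (toCent g) := by
  constructor
  · intro x y hxy
    obtain ⟨h1, h2⟩ := combo_inj hg (congrArg (fun z : ↥(Subgroup.centralizer ({g} : Set (GL (Fin 2) F))) =>
      ((z : GL (Fin 2) F) : Matrix (Fin 2) (Fin 2) F)) hxy)
    exact Subtype.ext (Prod.ext h1 h2)
  · rintro ⟨x, hx⟩
    obtain ⟨a, b, hab⟩ := exists_combo hg (congrArg Units.val (Subgroup.mem_centralizer_singleton_iff.1 hx))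
    refine ⟨⟨(a, b), ?_⟩, Subtype.ext (Units.ext hab.symm)⟩
    rw [← det_combo, ← hab]
    exact Matrix.GeneralLinearGroup.det_ne_zero x

/-- The determinant on the centralizer takes every value. -/
def Full (g : GL (Fin 2) F) : Prop :=
  ∀ c : F, c ≠ 0 → ∃ x ∈ Subgroup.centralizer ({g} : Set (GL (Fin 2) F)), ((x : Matrix (Fin 2) (Fin 2) F)).det = c

theorem full_of {g : GL (Fin 2) F}
    (h : ∀ c : F, c ≠ 0 → ∃ a b : F, a * a + (g : Matrix (Fin 2) (Fin 2) F).trace * a * b +
      (g : Matrix (Fin 2) (Fin 2) F).det * b * b = c) : Full g := fun c hc => by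
  obtain ⟨a, b, hab⟩ := h c hc
  exact ⟨(toCent g ⟨(a, b), by rw [hab]; exact hc⟩ : GL (Fin 2) F), Subtype.prop _, (det_combo _ a b).trans hab⟩

/-- Conjugacy in SL₂ of non-scalar elements with the same trace, when the determinant is full on the centralizer. -/
theorem isConj_SL {g h : Matrix.SpecialLinearGroup (Fin 2) F}
    (hg : NonScalar (g : Matrix (Fin 2) (Fin 2) F)) (hh : NonScalar (h : Matrix (Fin 2) (Fin 2) F))
    (ht : (g : Matrix (Fin 2) (Fin 2) F).trace = (h : Matrix (Fin 2) (Fin 2) F).trace)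
    (hf : Full (Matrix.SpecialLinearGroup.toGL g)) : IsConj g h := by
  obtain ⟨P, hP⟩ := exists_conj (g := Matrix.SpecialLinearGroup.toGL g) (h := Matrix.SpecialLinearGroup.toGL h)
    hg hh ht ((g.2).trans h.2.symm)
  obtain ⟨x, hx, hxd⟩ := hf ((P : Matrix (Fin 2) (Fin 2) F).det)⁻¹ (inv_ne_zero (Matrix.GeneralLinearGroup.det_ne_zero P))
  let s : Matrix.SpecialLinearGroup (Fin 2) F := ⟨((P * x : GL (Fin 2) F) : Matrix (Fin 2) (Fin 2) F), by
    rw [Units.val_mul, Matrix.det_mul, hxd, mul_inv_cancel₀ (Matrix.GeneralLinearGroup.det_ne_zero P)]⟩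
  refine isConj_iff.2 ⟨s, Matrix.SpecialLinearGroup.toGL_injective ?_⟩
  have hs : Matrix.SpecialLinearGroup.toGL s = P * x := Units.ext rfl
  rw [map_mul, map_mul, map_inv, hs, ← hP]
  have hx' := Subgroup.mem_centralizer_singleton_iff.1 hx
  calc P * x * Matrix.SpecialLinearGroup.toGL g * (P * x)⁻¹
      = P * (x * Matrix.SpecialLinearGroup.toGL g) * x⁻¹ * P⁻¹ := by group
    _ = _ := by rw [hx']; group

end Cfsg.Lib.GLTwo
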