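import Cfsg.Agent.Known.SLTwo.Cases
import Cfsg.Prelude.Def_ParabolicCharacters
import Cfsg.Prelude.Def_Characters

/-! Classes of GL₂ and the action on the cosets of the Borel subgroup. -/

set_option autoImplicit false
set_option linter.unusedSectionVars false

open Matrix

namespace Cfsg.Lib.GLTwo

variable {F : Type*} [Field F]

/-- The representatives of the classes of GL₂. -/
noncomputable def repGL : Fˣ ⊕ (F × Fˣ) → ConjClasses (GL (Fin 2) F)
  | .inl c => ConjClasses.mk (Matrix.GeneralLinearGroup.mkOfDetNeZero ((c : F) • (1 : Matrix (Fin 2) (Fin 2) F))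
      (by simp))
  | .inr td => ConjClasses.mk (Matrix.GeneralLinearGroup.mkOfDetNeZero (comp td.1 (td.2 : F))
      (by rw [det_comp]; exact td.2.ne_zero))

theorem repGL_bijective : Function.Bijective (repGL (F := F)) := by
  have inv : ∀ g h : GL (Fin 2) F, IsConj g h →
      (g : Matrix (Fin 2) (Fin 2) F).trace = (h : Matrix (Fin 2) (Fin 2) F).trace ∧
      (g : Matrix (Fin 2) (Fin 2) F).det = (h : Matrix (Fin 2) (Fin 2) F).det ∧
      (¬ NonScalar (g : Matrix (Fin 2) (Fin 2) F) → g = h) := by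
    intro g h hc
    obtain ⟨c, rfl⟩ := isConj_iff.1 hc
    refine ⟨?_, ?_, fun hs => ?_⟩
    · rw [Units.val_mul, Matrix.trace_mul_comm, ← Units.val_mul, ← mul_assoc, inv_mul_cancel, one_mul]
    · exact congrArg Units.val (show Matrix.GeneralLinearGroup.det g = Matrix.GeneralLinearGroup.det (c * g * c⁻¹) by
        rw [map_mul, map_mul, map_inv, mul_right_comm, mul_inv_cancel, one_mul])
    · have : c * g = g * c := Units.ext (by
        rw [Units.val_mul, Units.val_mul, eq_smul_one hs, Matrix.mul_smul, Matrix.smul_mul, Matrix.mul_one, Matrix.one_mul])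
      rw [this, mul_inv_cancel_right]
  constructor
  · rintro (c | ⟨t, d⟩) (c' | ⟨t', d'⟩) h <;> obtain ⟨htr, hdet, heq⟩ := inv _ _ (ConjClasses.mk_eq_mk_iff_isConj.1 h)
    · have e := congrFun (congrFun (congrArg (fun z : GL (Fin 2) F => (z : Matrix (Fin 2) (Fin 2) F)) (heq (not_nonScalar_smul (c : F)))) 0) 0
      simp at e
      exact congrArg Sum.inl (Units.ext e)
    · exfalso
      have e : (c : F) • (1 : Matrix (Fin 2) (Fin 2) F) = comp t' d' := congrArg Units.val (heq (not_nonScalar_smul (c : F)))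
      exact nonScalar_comp t' (d' : F) (by rw [← e]; exact ⟨by simp, by simp, by simp⟩)
    · exfalso
      obtain ⟨-, -, heq'⟩ := inv _ _ (ConjClasses.mk_eq_mk_iff_isConj.1 h).symm
      have e : (c' : F) • (1 : Matrix (Fin 2) (Fin 2) F) = comp t d := congrArg Units.val (heq' (not_nonScalar_smul (c' : F)))
      exact nonScalar_comp t (d : F) (by rw [← e]; exact ⟨by simp, by simp, by simp⟩)
    · simp [trace_comp, det_comp] at htr hdet
      rw [htr, Units.ext hdet]
  · intro C
    obtain ⟨g, rfl⟩ := ConjClasses.exists_rep C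
    by_cases hg : NonScalar (g : Matrix (Fin 2) (Fin 2) F)
    · refine ⟨.inr ((g : Matrix (Fin 2) (Fin 2) F).trace, Units.mk0 _ (Matrix.GeneralLinearGroup.det_ne_zero g)),
        ConjClasses.mk_eq_mk_iff_isConj.2 ?_⟩
      obtain ⟨P, hP⟩ := exists_conj (h := g) (g := Matrix.GeneralLinearGroup.mkOfDetNeZero
        (comp (g : Matrix (Fin 2) (Fin 2) F).trace (g : Matrix (Fin 2) (Fin 2) F).det)
        (by rw [det_comp]; exact Matrix.GeneralLinearGroup.det_ne_zero g)) (nonScalar_comp _ _) hg
        (trace_comp _ _) (det_comp _ _)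
      exact isConj_iff.2 ⟨P, hP⟩
    · have h := eq_smul_one hg
      have hne : (g : Matrix (Fin 2) (Fin 2) F) 0 0 ≠ 0 := fun h0 => by
        have := Matrix.GeneralLinearGroup.det_ne_zero g
        rw [h, h0] at this
        simp at this
      exact ⟨.inl (Units.mk0 _ hne), congrArg ConjClasses.mk (Units.ext h.symm)⟩

theorem card_classes_GL [Fintype F] :
    Nat.card (ConjClasses (GL (Fin 2) F)) = Fintype.card F ^ 2 - 1 := by
  rw [← Nat.card_congr (Equiv.ofBijective _ (repGL_bijective (F := F))), Nat.card_sum, Nat.card_prod, Nat.card_units,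
    Nat.card_eq_fintype_card]
  obtain ⟨k, hk⟩ : ∃ k, Fintype.card F = k + 1 := ⟨_, (Nat.sub_add_cancel (Fintype.card_pos (α := F))).symm⟩
  rw [hk, Nat.add_sub_cancel, show (k + 1) ^ 2 = k + (k + 1) * k + 1 by ring]
  omega

theorem mem_borel (g : GL (Fin 2) F) :
    g ∈ Cfsg.upperTriangularGL 2 F ↔ (g : Matrix (Fin 2) (Fin 2) F) 1 0 = 0 := by
  refine ⟨fun h => h (i := (1 : Fin 2)) (j := (0 : Fin 2)) (by decide), fun h i j hij => ?_⟩
  fin_cases i <;> fin_cases j <;> simp_all

/-- The coset representative of a point of the projective line. -/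
def pointRep : Option F → Matrix.SpecialLinearGroup (Fin 2) F
  | none => 1
  | some c => ⟨!![c, -1; 1, 0], by simp [Matrix.det_fin_two]⟩

theorem coe_none : ((pointRep (none : Option F)) : Matrix (Fin 2) (Fin 2) F) = 1 := rfl

theorem coe_some (c : F) : ((pointRep (some c)) : Matrix (Fin 2) (Fin 2) F) = !![c, -1; 1, 0] := rfl

theorem inv_none :
    (((pointRep (none : Option F))⁻¹ : Matrix.SpecialLinearGroup (Fin 2) F) : Matrix (Fin 2) (Fin 2) F) = 1 := by
  rw [show pointRep (none : Option F) = 1 from rfl, inv_one]; rfl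

theorem inv_some (c : F) :
    (((pointRep (some c))⁻¹ : Matrix.SpecialLinearGroup (Fin 2) F) : Matrix (Fin 2) (Fin 2) F) = !![0, 1; -1, c] := by
  rw [Matrix.SpecialLinearGroup.coe_inv, coe_some, Matrix.adjugate_fin_two]
  ext i j; fin_cases i <;> fin_cases j <;> simp

/-- First column of the conjugate by the coset representative. -/
def colAt (g : Matrix (Fin 2) (Fin 2) F) : Option F → F × F
  | none => (g 0 0, g 1 0)
  | some c => (g 1 0 * c + g 1 1, -(g 0 0 * c + g 0 1) + c * (g 1 0 * c + g 1 1))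

theorem colAt_eq (g : Matrix (Fin 2) (Fin 2) F) (o : Option F) :
    colAt g o = (((((pointRep o)⁻¹ : Matrix.SpecialLinearGroup (Fin 2) F) : Matrix (Fin 2) (Fin 2) F) * g *
        (pointRep o : Matrix (Fin 2) (Fin 2) F)) 0 0, ((((pointRep o)⁻¹ : Matrix.SpecialLinearGroup (Fin 2) F) :
        Matrix (Fin 2) (Fin 2) F) * g * (pointRep o : Matrix (Fin 2) (Fin 2) F)) 1 0) := by
  rcases o with _ | c
  · simp [colAt, coe_none, Matrix.adjugate_fin_two, Matrix.mul_apply, Fin.sum_univ_two]
  · simp only [colAt, inv_some, coe_some, Prod.mk.injEq]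
    simp [Matrix.mul_apply, Fin.sum_univ_two, Matrix.vecMul, dotProduct]
    ring

theorem pointRep_bijective :
    Function.Bijective fun o : Option F =>
      (QuotientGroup.mk (Matrix.SpecialLinearGroup.toGL (pointRep o)) : GL (Fin 2) F ⧸ Cfsg.upperTriangularGL 2 F) := by
  constructor
  · intro o o' h
    rw [QuotientGroup.eq, mem_borel, ← map_inv, ← map_mul] at h
    change (((pointRep o)⁻¹ * pointRep o' : Matrix.SpecialLinearGroup (Fin 2) F) : Matrix (Fin 2) (Fin 2) F) 1 0 = 0 at h
    rw [Matrix.SpecialLinearGroup.coe_mul] at h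
    rcases o with _ | c <;> rcases o' with _ | c'
    · rfl
    · simp [coe_some, coe_none] at h
    · simp [coe_some, coe_none, Matrix.adjugate_fin_two] at h
    · simp [coe_some, Matrix.adjugate_fin_two, Matrix.mul_apply, Fin.sum_univ_two, Matrix.vecMul, dotProduct] at h
      rw [show c = c' by linear_combination h]
  · intro z
    obtain ⟨y, rfl⟩ := QuotientGroup.mk_surjective z
    by_cases h : (y : Matrix (Fin 2) (Fin 2) F) 1 0 = 0
    · refine ⟨none, QuotientGroup.eq.2 ?_⟩
      rw [mem_borel]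
      simp [pointRep, h]
    · refine ⟨some ((y : Matrix (Fin 2) (Fin 2) F) 0 0 / (y : Matrix (Fin 2) (Fin 2) F) 1 0), QuotientGroup.eq.2 ?_⟩
      rw [mem_borel, ← map_inv]
      change ((((pointRep _)⁻¹ : Matrix.SpecialLinearGroup (Fin 2) F) : Matrix (Fin 2) (Fin 2) F) *
        (y : Matrix (Fin 2) (Fin 2) F)) 1 0 = 0
      simp [coe_some, Matrix.adjugate_fin_two, Matrix.mul_apply, Fin.sum_univ_two, Matrix.vecMul, dotProduct]
      field_simp
      ring

theorem fixed_iff (g : GL (Fin 2) F) (o : Option F) :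
    g • (QuotientGroup.mk (Matrix.SpecialLinearGroup.toGL (pointRep o)) : GL (Fin 2) F ⧸ Cfsg.upperTriangularGL 2 F) =
      QuotientGroup.mk (Matrix.SpecialLinearGroup.toGL (pointRep o)) ↔ (colAt (g : Matrix (Fin 2) (Fin 2) F) o).2 = 0 := by
  rw [MulAction.Quotient.smul_mk, eq_comm, QuotientGroup.eq, mem_borel, ← map_inv, smul_eq_mul, ← mul_assoc,
    colAt_eq, Units.val_mul, Units.val_mul]
  rfl

theorem card_fixed [Fintype F] (g : GL (Fin 2) F) :
    Cfsg.fixedPointCharacter (Cfsg.upperTriangularGL 2 F) g =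
      (Nat.card {o : Option F // (colAt (g : Matrix (Fin 2) (Fin 2) F) o).2 = 0} : ℂ) := by
  unfold Cfsg.fixedPointCharacter
  exact congrArg Nat.cast (Nat.card_congr ((Equiv.ofBijective _ pointRep_bijective).subtypeEquiv
    fun o => (fixed_iff g o).symm)).symm

/-- The Borel subgroup of SL₂. -/
abbrev borel (F : Type*) [Field F] : Subgroup (Matrix.SpecialLinearGroup (Fin 2) F) :=
  (Cfsg.upperTriangularGL 2 F).comap Matrix.SpecialLinearGroup.toGL

theorem mem_borelSL (g : Matrix.SpecialLinearGroup (Fin 2) F) :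
    g ∈ borel F ↔ (g : Matrix (Fin 2) (Fin 2) F) 1 0 = 0 := mem_borel _

open Classical in
theorem indFun_eq [Fintype F] [DecidableEq F] (α : F →* ℂ) (g : Matrix.SpecialLinearGroup (Fin 2) F) :
    Cfsg.indFun (borel F) (fun b => α (((b : Matrix.SpecialLinearGroup (Fin 2) F) : Matrix (Fin 2) (Fin 2) F) 0 0)) g =
      ∑ o : Option F, if (colAt (g : Matrix (Fin 2) (Fin 2) F) o).2 = 0
        then α (colAt (g : Matrix (Fin 2) (Fin 2) F) o).1 else 0 := by
  let G := Matrix.SpecialLinearGroup (Fin 2) F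
  have hbij : Function.Bijective fun ob : Option F × ↥(borel F) => pointRep ob.1 * (ob.2 : G) := by
    constructor
    · rintro ⟨o, b⟩ ⟨o', b'⟩ h
      have h1 : o = o' := pointRep_bijective.1 <| QuotientGroup.eq.2 <| by
        rw [← map_inv, ← map_mul]
        have e : (pointRep o)⁻¹ * pointRep o' = (b : G) * (b' : G)⁻¹ := by
          rw [eq_mul_inv_iff_mul_eq, mul_assoc, inv_mul_eq_iff_eq_mul]; exact h.symm
        show ((pointRep o)⁻¹ * pointRep o') ∈ borel F
        rw [e]
        exact mul_mem b.2 (inv_mem b'.2)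
      subst h1
      exact Prod.ext rfl (Subtype.ext (mul_left_cancel h))
    · intro x
      obtain ⟨o, ho⟩ := pointRep_bijective.2 (QuotientGroup.mk (Matrix.SpecialLinearGroup.toGL x))
      refine ⟨(o, ⟨(pointRep o)⁻¹ * x, ?_⟩), mul_inv_cancel_left _ _⟩
      rw [Subgroup.mem_comap, map_mul, map_inv]
      exact QuotientGroup.eq.1 ho
  have hterm : ∀ (o : Option F) (b : ↥(borel F)),
      Cfsg.extendByZero (borel F) (fun b => α (((b : G) : Matrix (Fin 2) (Fin 2) F) 0 0))
        ((pointRep o * (b : G))⁻¹ * g * (pointRep o * (b : G))) =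
      if (colAt (g : Matrix (Fin 2) (Fin 2) F) o).2 = 0 then α (colAt (g : Matrix (Fin 2) (Fin 2) F) o).1 else 0 := by
    intro o b
    set h := (pointRep o)⁻¹ * g * pointRep o with hh
    have hc : colAt (g : Matrix (Fin 2) (Fin 2) F) o = ((h : Matrix (Fin 2) (Fin 2) F) 0 0, (h : Matrix (Fin 2) (Fin 2) F) 1 0) := by
      rw [colAt_eq]; rfl
    rw [show (pointRep o * (b : G))⁻¹ * g * (pointRep o * (b : G)) = (b : G)⁻¹ * h * b by rw [hh]; group, hc]
    simp only
    by_cases hm : h ∈ borel F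
    · rw [if_pos ((mem_borelSL h).1 hm)]
      have hm' : (b : G)⁻¹ * h * b ∈ borel F := mul_mem (mul_mem (inv_mem b.2) hm) b.2
      refine (Function.Injective.extend_apply Subtype.val_injective _ _ ⟨_, hm'⟩).trans ?_
      have h10 := (mem_borelSL _).1 hm
      have hb10 := (mem_borelSL _).1 b.2
      have hbd := (b : G).2
      rw [Matrix.det_fin_two, hb10, mul_zero, sub_zero] at hbd
      congr 1
      simp [Matrix.adjugate_fin_two, Matrix.mul_apply, Fin.sum_univ_two, Matrix.vecMul, dotProduct, h10, hb10]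
      linear_combination ((h : Matrix (Fin 2) (Fin 2) F) 0 0) * hbd
    · rw [if_neg fun e => hm ((mem_borelSL h).2 e)]
      refine Function.extend_apply' _ _ _ ?_
      rintro ⟨⟨z, hz⟩, rfl⟩
      exact hm (by have := mul_mem (mul_mem b.2 hz) (inv_mem b.2); simpa [mul_assoc] using this)
  unfold Cfsg.indFun
  rw [← Equiv.sum_comp (Equiv.ofBijective _ hbij), Fintype.sum_prod_type]
  simp only [Equiv.ofBijective_apply, hterm, Finset.sum_const, Finset.card_univ, nsmul_eq_mul, ← Finset.mul_sum,
    ← Nat.card_eq_fintype_card]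
  rw [← mul_assoc, inv_mul_cancel₀ (Nat.cast_ne_zero.2 Nat.card_pos.ne'), one_mul]

end Cfsg.Lib.GLTwo
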