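import Cfsg.Agent.Known.SLTwo.SL
import Cfsg.Agent.Known.SLTwo.GL

/-! Classes of the Borel subgroup and of the split torus normalizer in SL₂. -/

set_option autoImplicit false
set_option linter.unusedSectionVars false

open Matrix
open scoped MatrixGroups

namespace Cfsg.Lib.GLTwo

variable {F : Type*} [Field F]

theorem mul_zero_zero {g h : SL(2, F)} (hh : (h : Matrix (Fin 2) (Fin 2) F) 1 0 = 0) :
    ((g * h : SL(2, F)) : Matrix (Fin 2) (Fin 2) F) 0 0 =
      (g : Matrix (Fin 2) (Fin 2) F) 0 0 * (h : Matrix (Fin 2) (Fin 2) F) 0 0 := by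
  simp [Matrix.mul_apply, Fin.sum_univ_two, hh]

theorem zero_zero_ne {g : SL(2, F)} (hg : (g : Matrix (Fin 2) (Fin 2) F) 1 0 = 0) :
    (g : Matrix (Fin 2) (Fin 2) F) 0 0 * (g : Matrix (Fin 2) (Fin 2) F) 1 1 = 1 := by
  have := g.2
  rw [Matrix.det_fin_two, hg, mul_zero, sub_zero] at this
  exact this

/-- `upper r x` inside the Borel subgroup. -/
def upperB (r : {r : F // r * r = 1}) (x : F) : ↥(borel F) := ⟨upper r x, (mem_borelSL _).2 (by simp)⟩

/-- A diagonal element of the Borel subgroup. -/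
def diagB (a : Fˣ) : ↥(borel F) :=
  ⟨⟨!![(a : F), 0; 0, ((a⁻¹ : Fˣ) : F)], by simp [Matrix.det_fin_two]⟩, (mem_borelSL _).2 (by simp)⟩

theorem isConj_borel_zero_zero {g h : ↥(borel F)} (hc : IsConj g h) :
    ((g : SL(2, F)) : Matrix (Fin 2) (Fin 2) F) 0 0 = ((h : SL(2, F)) : Matrix (Fin 2) (Fin 2) F) 0 0 := by
  obtain ⟨c, hc⟩ := isConj_iff.1 hc
  rw [mul_inv_eq_iff_eq_mul] at hc
  have e := congrArg (fun z : ↥(borel F) => ((z : SL(2, F)) : Matrix (Fin 2) (Fin 2) F) 0 0) hc
  simp only [Subgroup.coe_mul] at e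
  rw [mul_zero_zero ((mem_borelSL _).1 g.2), mul_zero_zero ((mem_borelSL _).1 c.2), mul_comm _ ((((c : ↥(borel F)) : SL(2, F)) : Matrix (Fin 2) (Fin 2) F) 0 0)] at e
  exact mul_left_cancel₀ (left_ne_zero_of_mul_eq_one (zero_zero_ne ((mem_borelSL _).1 c.2))) e

theorem card_classes_borel [Fintype F] (h : Odd (Fintype.card F)) :
    Nat.card (ConjClasses ↥(borel F)) = Fintype.card F + 3 := by
  classical
  have h2 := two_ne_zero_of_odd h
  obtain ⟨ν, hν⟩ := FiniteField.exists_nonsquare (F := F) fun e => (Nat.not_even_iff_odd.2 h) (Nat.even_iff.2 (FiniteField.even_card_of_char_two e))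
  have hν0 : ν ≠ 0 := fun e => hν (by rw [e]; exact IsSquare.zero)
  let val : Option Bool → F := fun o => match o with | none => 0 | some true => 1 | some false => ν
  let φ : ({r : F // r * r = 1} × Option Bool) ⊕ {a : Fˣ // ((a : Fˣ) : F) * ((a : Fˣ) : F) ≠ 1} → ConjClasses ↥(borel F) :=
    Sum.elim (fun ro => ConjClasses.mk (upperB ro.1 (val ro.2))) (fun a => ConjClasses.mk (diagB (a : Fˣ)))
  have hsub : ∀ g k : ↥(borel F), IsConj g k → IsConj (g : SL(2, F)) (k : SL(2, F)) := fun g k hc =>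
    (borel F).subtype.map_isConj hc
  have conj_sq : ∀ r (x s : F), s ≠ 0 → IsConj (upperB r x) (upperB r (x * s * s)) := by
    intro r x s hs
    let c : ↥(borel F) := diagB (Units.mk0 s hs)
    refine isConj_iff.2 ⟨c, ?_⟩
    rw [mul_inv_eq_iff_eq_mul]
    refine Subtype.ext (Subtype.ext ?_)
    change !![s, 0; 0, s⁻¹] * !![(r : F), x; 0, r] = !![(r : F), x * s * s; 0, r] * !![s, 0; 0, s⁻¹]
    ext i j; fin_cases i <;> fin_cases j <;> simp [Matrix.mul_apply, Fin.sum_univ_two] <;> field_simp <;> ring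
  have hφ : Function.Bijective φ := by
    constructor
    · rintro (⟨r, o⟩ | a) (⟨r', o'⟩ | a') heq <;> have hc := ConjClasses.mk_eq_mk_iff_isConj.1 heq
      · have key : ∀ r o, repOdd ν (.inl (r, o)) = ConjClasses.mk (upper r (val o)) := by
          intro r o; rcases o with _ | _ | _ <;> rfl
        have := (repOdd_bijective h2 hν).1 (a₁ := .inl (r, o)) (a₂ := .inl (r', o'))
          (by rw [key, key]; exact ConjClasses.mk_eq_mk_iff_isConj.2 (hsub _ _ hc))
        simpa using this
      · exfalso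
        have e := isConj_borel_zero_zero hc
        simp [upperB, diagB] at e
        exact a'.2 (by rw [← e]; exact r.2)
      · exfalso
        have e := isConj_borel_zero_zero hc
        simp [upperB, diagB] at e
        exact a.2 (by rw [e]; exact r'.2)
      · have e := isConj_borel_zero_zero hc
        simp [diagB] at e
        exact congrArg Sum.inr (Subtype.ext (Units.ext e))
    · intro C
      obtain ⟨g, rfl⟩ := ConjClasses.exists_rep C
      obtain ⟨⟨A, hA⟩, hg⟩ := g
      have h10 : A 1 0 = 0 := (mem_borelSL _).1 hg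
      have hd : A 0 0 * A 1 1 = 1 := zero_zero_ne (g := ⟨A, hA⟩) h10
      by_cases hsq : A 0 0 * A 0 0 = 1
      · have h11 : A 1 1 = A 0 0 := mul_left_cancel₀ (left_ne_zero_of_mul_eq_one hd) (hd.trans hsq.symm)
        have hx : (⟨⟨A, hA⟩, hg⟩ : ↥(borel F)) = upperB ⟨_, hsq⟩ (A 0 1) := Subtype.ext <| Subtype.ext <| by
          change A = !![A 0 0, A 0 1; 0, A 0 0]
          ext i j; fin_cases i <;> fin_cases j <;> simp [h10, h11]
        rw [hx]
        by_cases hx0 : A 0 1 = 0
        · exact ⟨.inl (⟨_, hsq⟩, none), by rw [hx0]; rfl⟩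
        by_cases hxs : IsSquare (A 0 1)
        · obtain ⟨s, hs⟩ := hxs
          refine ⟨.inl (⟨_, hsq⟩, some true), ConjClasses.mk_eq_mk_iff_isConj.2 ?_⟩
          have := conj_sq ⟨_, hsq⟩ 1 s (fun e => hx0 (by rw [hs, e, mul_zero]))
          rwa [one_mul, ← hs] at this
        · refine ⟨.inl (⟨_, hsq⟩, some false), ConjClasses.mk_eq_mk_iff_isConj.2 ?_⟩
          obtain ⟨s, hs⟩ : IsSquare (A 0 1 / ν) := by
            have e1 : quadraticChar F (A 0 1) = -1 := quadraticChar_neg_one_iff_not_isSquare.2 hxs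
            have e2 : quadraticChar F ν⁻¹ = -1 := quadraticChar_neg_one_iff_not_isSquare.2 (by simpa using hν)
            refine (quadraticChar_one_iff_isSquare (div_ne_zero hx0 hν0)).1 ?_
            rw [div_eq_mul_inv, map_mul, e1, e2]; norm_num
          have := conj_sq ⟨_, hsq⟩ ν s (fun e => by rw [e] at hs; simp [hx0, hν0] at hs)
          rwa [mul_assoc, ← hs, mul_div_cancel₀ _ hν0] at this
      · refine ⟨.inr ⟨Units.mk0 (A 0 0) (left_ne_zero_of_mul_eq_one hd), hsq⟩, ConjClasses.mk_eq_mk_iff_isConj.2 (IsConj.symm ?_)⟩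
        have hne : A 0 0 - A 1 1 ≠ 0 := sub_ne_zero.2 fun e => hsq (by rw [← hd, ← e])
        let y : F := A 0 1 / (A 0 0 - A 1 1)
        refine isConj_iff.2 ⟨⟨⟨!![1, y; 0, 1], by simp [Matrix.det_fin_two]⟩, (mem_borelSL _).2 (by simp)⟩, ?_⟩
        rw [mul_inv_eq_iff_eq_mul]
        refine Subtype.ext (Subtype.ext ?_)
        change !![1, y; 0, 1] * A = !![A 0 0, 0; 0, (A 0 0)⁻¹] * !![1, y; 0, 1]
        have hinv : (A 0 0)⁻¹ = A 1 1 := inv_eq_of_mul_eq_one_right hd
        have hy : y * (A 0 0 - A 1 1) = A 0 1 := div_mul_cancel₀ _ hne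
        ext i j; fin_cases i <;> fin_cases j <;> simp [Matrix.mul_apply, Fin.sum_univ_two, h10, hinv]
        linear_combination -hy
  rw [← Nat.card_congr (Equiv.ofBijective φ hφ), Nat.card_sum, Nat.card_prod, card_sq_one h2,
    Nat.card_eq_fintype_card (α := Option Bool)]
  have hu : Nat.card {a : Fˣ // (a : F) * (a : F) ≠ 1} + 2 = Fintype.card F - 1 := by
    rw [← card_sq_one (F := F) h2, ← Nat.card_congr
      ({ toFun := fun a => ⟨((a : Fˣ) : F), a.2⟩
         invFun := fun x => ⟨Units.mk0 x.1 (left_ne_zero_of_mul_eq_one x.2), x.2⟩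
         left_inv := fun a => Subtype.ext (Units.ext rfl)
         right_inv := fun x => rfl } : {a : Fˣ // (a : F) * (a : F) = 1} ≃ {x : F // x * x = 1}),
      add_comm, ← Nat.card_sum, Nat.card_congr (Equiv.sumCompl fun a : Fˣ => (a : F) * (a : F) = 1),
      Nat.card_units, Nat.card_eq_fintype_card]
  have hq := Fintype.one_lt_card (α := F)
  rw [show Fintype.card (Option Bool) = 3 from rfl]
  omega

/-- `[[0, a], [-a⁻¹, 0]]` or `[[a, 0], [0, a⁻¹]]`. -/
def monoEl : Fˣ × Bool → SL(2, F)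
  | (a, false) => ⟨!![(a : F), 0; 0, ((a⁻¹ : Fˣ) : F)], by simp [Matrix.det_fin_two]⟩
  | (a, true) => ⟨!![0, (a : F); -((a⁻¹ : Fˣ) : F), 0], by simp [Matrix.det_fin_two]⟩

theorem monoEl_injective : Function.Injective (monoEl (F := F)) := by
  rintro ⟨a, i⟩ ⟨b, j⟩ h
  have e00 := congrArg (fun z : SL(2, F) => (z : Matrix (Fin 2) (Fin 2) F) 0 0) h
  have e01 := congrArg (fun z : SL(2, F) => (z : Matrix (Fin 2) (Fin 2) F) 0 1) h
  cases i <;> cases j <;> simp [monoEl] at e00 e01
  · exact Prod.ext (Units.ext e00) rfl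
  · exact Prod.ext (Units.ext e01) rfl

theorem monoEl_cases {g : SL(2, F)}
    (h : ((g : Matrix (Fin 2) (Fin 2) F) 0 1 = 0 ∧ (g : Matrix (Fin 2) (Fin 2) F) 1 0 = 0) ∨
      ((g : Matrix (Fin 2) (Fin 2) F) 0 0 = 0 ∧ (g : Matrix (Fin 2) (Fin 2) F) 1 1 = 0)) :
    ∃ x, monoEl x = g := by
  have hd := g.2
  rw [Matrix.det_fin_two] at hd
  rcases h with ⟨h01, h10⟩ | ⟨h00, h11⟩
  · rw [h01, h10, mul_zero, sub_zero] at hd
    refine ⟨(Units.mk0 _ (left_ne_zero_of_mul_eq_one hd), false), Subtype.ext ?_⟩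
    ext i j; fin_cases i <;> fin_cases j <;> simp [monoEl, h01, h10, inv_eq_of_mul_eq_one_right hd]
  · rw [h00, h11, mul_zero, zero_sub, ← mul_neg] at hd
    refine ⟨(Units.mk0 _ (left_ne_zero_of_mul_eq_one hd), true), Subtype.ext ?_⟩
    ext i j; fin_cases i <;> fin_cases j <;> simp [monoEl, h00, h11, inv_eq_of_mul_eq_one_right hd]

theorem monoEl_commute (h2 : (2 : F) ≠ 0) (a b : Fˣ) :
    (Commute (monoEl (a, false)) (monoEl (b, false))) ∧
    (Commute (monoEl (a, false)) (monoEl (b, true)) ↔ (a : F) * a = 1) ∧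
    (Commute (monoEl (a, true)) (monoEl (b, false)) ↔ (b : F) * b = 1) ∧
    (Commute (monoEl (a, true)) (monoEl (b, true)) ↔ (a : F) * a = (b : F) * b) := by
  have ha := a.ne_zero
  have hb := b.ne_zero
  have key : ∀ x y : SL(2, F), Commute x y ↔
      (x : Matrix (Fin 2) (Fin 2) F) * (y : Matrix (Fin 2) (Fin 2) F) =
        (y : Matrix (Fin 2) (Fin 2) F) * (x : Matrix (Fin 2) (Fin 2) F) := fun x y =>
    ⟨fun h => congrArg (fun z : SL(2, F) => (z : Matrix (Fin 2) (Fin 2) F)) h, fun h => Subtype.ext h⟩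
  refine ⟨(key _ _).2 ?_, (key _ _).trans ?_, (key _ _).trans ?_, (key _ _).trans ?_⟩
  · ext i j; fin_cases i <;> fin_cases j <;> simp [monoEl, Matrix.mul_apply, Fin.sum_univ_two] <;> ring
  all_goals constructor
  all_goals intro h
  · have := congrFun (congrFun h 0) 1
    simp [monoEl, Matrix.mul_apply, Fin.sum_univ_two] at this
    field_simp at this
    linear_combination this
  · ext i j; fin_cases i <;> fin_cases j <;> simp [monoEl, Matrix.mul_apply, Fin.sum_univ_two] <;> field_simp <;>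
      first | linear_combination h | linear_combination -h
  · have := congrFun (congrFun h 0) 1
    simp [monoEl, Matrix.mul_apply, Fin.sum_univ_two] at this
    field_simp at this
    linear_combination -this
  · ext i j; fin_cases i <;> fin_cases j <;> simp [monoEl, Matrix.mul_apply, Fin.sum_univ_two] <;> field_simp <;>
      first | linear_combination h | linear_combination -h
  · have := congrFun (congrFun h 0) 0
    simp [monoEl, Matrix.mul_apply, Fin.sum_univ_two] at this
    field_simp at this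
    linear_combination this
  · ext i j; fin_cases i <;> fin_cases j <;> simp [monoEl, Matrix.mul_apply, Fin.sum_univ_two] <;> field_simp <;>
      first | linear_combination h | linear_combination -h

theorem torus_main [Fintype F] (hodd : Odd (Fintype.card F)) (d : SL(2, F))
    (hd01 : (d : Matrix (Fin 2) (Fin 2) F) 0 1 = 0) (hd10 : (d : Matrix (Fin 2) (Fin 2) F) 1 0 = 0)
    (hda : (d : Matrix (Fin 2) (Fin 2) F) 0 0 ^ 2 ≠ 1) :
    (∀ g : SL(2, F), g ∈ Subgroup.centralizer ({d} : Set SL(2, F)) ↔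
        ((g : Matrix (Fin 2) (Fin 2) F) 0 1 = 0 ∧ (g : Matrix (Fin 2) (Fin 2) F) 1 0 = 0)) ∧
    Nat.card (Subgroup.normalizer ((Subgroup.centralizer ({d} : Set SL(2, F))) : Set SL(2, F))) = 2 * (Fintype.card F - 1) ∧
    Nat.card (ConjClasses (Subgroup.normalizer ((Subgroup.centralizer ({d} : Set SL(2, F))) : Set SL(2, F)))) =
      (Fintype.card F + 5) / 2 ∧
    ∀ g : SL(2, F), g ∈ Subgroup.normalizer ((Subgroup.centralizer ({d} : Set SL(2, F))) : Set SL(2, F)) →
      g ∉ Subgroup.centralizer ({d} : Set SL(2, F)) →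
      (((g : Matrix (Fin 2) (Fin 2) F) * (g : Matrix (Fin 2) (Fin 2) F))) = -1 := by
  classical
  have h2 := two_ne_zero_of_odd hodd
  set D := (d : Matrix (Fin 2) (Fin 2) F) with hD
  have hdd : D 0 0 * D 1 1 = 1 := zero_zero_ne hd10
  have hne : D 1 1 - D 0 0 ≠ 0 := sub_ne_zero.2 fun e => hda (by rw [sq]; nth_rw 2 [← e]; exact hdd)
  set C := Subgroup.centralizer ({d} : Set SL(2, F)) with hC
  have hcent : ∀ g : SL(2, F), g ∈ C ↔
      ((g : Matrix (Fin 2) (Fin 2) F) 0 1 = 0 ∧ (g : Matrix (Fin 2) (Fin 2) F) 1 0 = 0) := by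
    intro g
    rw [hC, Subgroup.mem_centralizer_singleton_iff]
    constructor
    · intro h
      have e := congrArg (fun z : SL(2, F) => (z : Matrix (Fin 2) (Fin 2) F)) h
      simp only [Matrix.SpecialLinearGroup.coe_mul] at e
      rw [← hD] at e
      have e01 := congrFun (congrFun e 0) 1
      have e10 := congrFun (congrFun e 1) 0
      simp [Matrix.mul_apply, Fin.sum_univ_two, hd01, hd10] at e01 e10
      exact ⟨(mul_eq_zero.1 (show (g : Matrix (Fin 2) (Fin 2) F) 0 1 * (D 1 1 - D 0 0) = 0 by linear_combination e01)).resolve_right hne,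
        (mul_eq_zero.1 (show (g : Matrix (Fin 2) (Fin 2) F) 1 0 * (D 1 1 - D 0 0) = 0 by linear_combination -e10)).resolve_right hne⟩
    · rintro ⟨h01, h10⟩
      refine Subtype.ext ?_
      simp only [Matrix.SpecialLinearGroup.coe_mul]
      rw [← hD]
      ext i j; fin_cases i <;> fin_cases j <;> simp [Matrix.mul_apply, Fin.sum_univ_two, hd01, hd10, h01, h10] <;> ring
  set N := Subgroup.normalizer (C : Set SL(2, F)) with hN
  have hdiag : ∀ a, monoEl (a, false) ∈ C := fun a => (hcent _).2 ⟨by simp [monoEl], by simp [monoEl]⟩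
  have hmem : ∀ g : SL(2, F), g ∈ N ↔ ∃ x, monoEl x = g := by
    intro g
    constructor
    · intro hg
      have hgd : g * d * g⁻¹ ∈ C := (Subgroup.mem_normalizer_iff.1 hg d).1 ((hcent d).2 ⟨hd01, hd10⟩)
      obtain ⟨h01, h10⟩ := (hcent _).1 hgd
      set E := ((g * d * g⁻¹ : SL(2, F)) : Matrix (Fin 2) (Fin 2) F)
      have e : E * (g : Matrix (Fin 2) (Fin 2) F) = (g : Matrix (Fin 2) (Fin 2) F) * D :=
        (congrArg (fun z : SL(2, F) => (z : Matrix (Fin 2) (Fin 2) F)) (show g * d * g⁻¹ * g = g * d by group))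
      have e00 := congrFun (congrFun e 0) 0
      have e01 := congrFun (congrFun e 0) 1
      have e10 := congrFun (congrFun e 1) 0
      have e11 := congrFun (congrFun e 1) 1
      simp [Matrix.mul_apply, Fin.sum_univ_two, hd01, hd10, h01, h10] at e00 e01 e10 e11
      apply monoEl_cases
      set A := (g : Matrix (Fin 2) (Fin 2) F)
      have r0 : A 0 0 * A 0 1 = 0 := (mul_eq_zero.1 (show A 0 0 * A 0 1 * (D 1 1 - D 0 0) = 0 by
        linear_combination (A 0 1) * e00 - (A 0 0) * e01)).resolve_right hne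
      have r1 : A 1 0 * A 1 1 = 0 := (mul_eq_zero.1 (show A 1 0 * A 1 1 * (D 1 1 - D 0 0) = 0 by
        linear_combination (A 1 1) * e10 - (A 1 0) * e11)).resolve_right hne
      have hd : A 0 0 * A 1 1 - A 0 1 * A 1 0 = 1 := (Matrix.det_fin_two A).symm.trans g.2
      rcases mul_eq_zero.1 r0 with h | h
      · refine .inr ⟨h, (mul_eq_zero.1 r1).resolve_left fun e => ?_⟩
        rw [h, e] at hd; simp at hd
      · refine .inl ⟨h, (mul_eq_zero.1 r1).resolve_right fun e => ?_⟩
        rw [h, e] at hd; simp at hd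
    · rintro ⟨x, rfl⟩
      rw [hN, Subgroup.mem_normalizer_iff]
      intro h
      have hconj : ∀ (x : Fˣ × Bool) (k : SL(2, F)), k ∈ C → monoEl x * k * (monoEl x)⁻¹ ∈ C := by
        rintro ⟨a, i⟩ k hk
        obtain ⟨k01, k10⟩ := (hcent k).1 hk
        refine (hcent _).2 ?_
        simp only [Matrix.SpecialLinearGroup.coe_mul, Matrix.SpecialLinearGroup.coe_inv]
        cases i <;> simp [monoEl, Matrix.adjugate_fin_two, Matrix.mul_apply, Fin.sum_univ_two, Matrix.vecMul, dotProduct, k01, k10]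
      refine ⟨hconj x h, fun hh => ?_⟩
      obtain ⟨y, hy⟩ : ∃ y, monoEl y = (monoEl x)⁻¹ := by
        apply monoEl_cases
        obtain ⟨a, i⟩ := x
        simp only [Matrix.SpecialLinearGroup.coe_inv]
        cases i <;> simp [monoEl, Matrix.adjugate_fin_two]
      have := hconj y _ hh
      rw [hy] at this
      simpa [mul_assoc] using this
  let ψ : Fˣ × Bool → ↥N := fun x => ⟨monoEl x, (hmem _).2 ⟨x, rfl⟩⟩
  have hψ : Function.Bijective ψ := by
    constructor
    · intro x y hxy; exact monoEl_injective (congrArg Subtype.val hxy)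
    · rintro ⟨g, hg⟩
      obtain ⟨x, hx⟩ := (hmem g).1 hg
      exact ⟨x, Subtype.ext hx⟩
  have hcardN : Nat.card ↥N = 2 * (Fintype.card F - 1) := by
    rw [← Nat.card_congr (Equiv.ofBijective ψ hψ), Nat.card_prod, Nat.card_units, Nat.card_eq_fintype_card,
      Nat.card_eq_fintype_card, Fintype.card_bool, mul_comm]
  refine ⟨hcent, hcardN, ?_, ?_⟩
  · have hpairs := card_comm_eq_card_conjClasses_mul_card ↥N
    rw [← Nat.card_congr (((Equiv.ofBijective ψ hψ).prodCongr (Equiv.ofBijective ψ hψ)).subtypeEquiv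
      (p := fun z => Commute (monoEl z.1) (monoEl z.2)) fun z => ?_), hcardN,
      Nat.card_congr (Equiv.subtypeProdEquivSigmaSubtype fun x y : Fˣ × Bool => Commute (monoEl x) (monoEl y)),
      Nat.card_sigma, Fintype.sum_prod_type] at hpairs
    swap
    · exact ⟨fun h => Subtype.ext h, fun h => congrArg Subtype.val h⟩
    have hsqa : ∀ a : Fˣ, Nat.card {b : Fˣ // (b : F) * b = (a : F) * a} = 2 := fun a => by
      rw [show Nat.card {b : Fˣ // (b : F) * b = (a : F) * a} = ({a, -a} : Set Fˣ).ncard from ?_, Set.ncard_pair]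
      · intro e
        have e' : (a : F) = -(a : F) := congrArg Units.val e
        exact a.ne_zero (mul_left_cancel₀ h2 (by linear_combination e'))
      · rw [← Nat.card_coe_set_eq]
        exact Nat.card_congr (Equiv.subtypeEquivRight fun b => by simp [mul_self_eq_mul_self_iff, Units.ext_iff])
    have hsplit : ∀ (P : Fˣ × Bool → Prop), Nat.card {y // P y} =
        Nat.card {b : Fˣ // P (b, false)} + Nat.card {b : Fˣ // P (b, true)} := fun P => by
      rw [← Nat.card_sum]
      refine Nat.card_congr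
        { toFun := fun y => match y with | ⟨(b, false), h⟩ => .inl ⟨b, h⟩ | ⟨(b, true), h⟩ => .inr ⟨b, h⟩
          invFun := fun z => match z with | .inl b => ⟨(b.1, false), b.2⟩ | .inr b => ⟨(b.1, true), b.2⟩
          left_inv := fun y => by rcases y with ⟨⟨b, _ | _⟩, h⟩ <;> rfl
          right_inv := fun z => by rcases z with b | b <;> rfl }
    have huniv : ∀ P : Fˣ → Prop, (∀ b, P b) → Nat.card {b : Fˣ // P b} = Fintype.card F - 1 := fun P hP => by
      rw [Nat.card_congr (Equiv.subtypeUnivEquiv hP), Nat.card_units, Nat.card_eq_fintype_card]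
    have hone : Nat.card {b : Fˣ // (b : F) * b = 1} = 2 := by simpa using hsqa 1
    have hT : ∀ a : Fˣ, Nat.card {y // Commute (monoEl (a, true)) (monoEl y)} = 4 := fun a => by
      rw [hsplit, Nat.card_congr (Equiv.subtypeEquivRight fun b => (monoEl_commute h2 a b).2.2.1), hone,
        Nat.card_congr (Equiv.subtypeEquivRight fun b => ((monoEl_commute h2 a b).2.2.2).trans eq_comm), hsqa]
    have hF : ∀ a : Fˣ, Nat.card {y // Commute (monoEl (a, false)) (monoEl y)} =
        (Fintype.card F - 1) + if (a : F) * a = 1 then Fintype.card F - 1 else 0 := fun a => by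
      rw [hsplit, huniv _ fun b => (monoEl_commute h2 a b).1]
      congr 1
      split_ifs with h
      · exact huniv _ fun b => (monoEl_commute h2 a b).2.1.2 h
      · haveI : IsEmpty {b : Fˣ // Commute (monoEl (a, false)) (monoEl (b, true))} :=
          ⟨fun b => h ((monoEl_commute h2 a b.1).2.1.1 b.2)⟩
        exact Nat.card_of_isEmpty
    simp only [Fintype.sum_bool, hT, hF, Finset.sum_add_distrib, Finset.sum_const, Finset.card_univ, smul_eq_mul,
      Fintype.card_units, Finset.sum_ite, Finset.sum_const_zero, add_zero] at hpairs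
    rw [← Fintype.card_subtype, ← Nat.card_eq_fintype_card (α := {b : Fˣ // (b : F) * b = 1}), hone] at hpairs
    have hq := Fintype.one_lt_card (α := F)
    obtain ⟨k, hk⟩ : ∃ k, Fintype.card F = k + 1 := ⟨_, (Nat.sub_add_cancel hq.le).symm⟩
    rw [hk, Nat.add_sub_cancel] at hpairs
    rw [hk]
    set X := Nat.card (ConjClasses ↥N)
    have : 2 * X = k + 6 := Nat.eq_of_mul_eq_mul_left (show 0 < k by omega) (by linarith [hpairs])
    omega
  · intro g hg hgC
    obtain ⟨⟨a, i⟩, rfl⟩ := (hmem g).1 hg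
    cases i
    · exact absurd (hdiag a) hgC
    · ext i j; fin_cases i <;> fin_cases j <;> simp [monoEl, Matrix.mul_apply, Fin.sum_univ_two]

end Cfsg.Lib.GLTwo
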