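import Cfsg.Agent.Known.SLTwo.Basic

/-! The three kinds of non-scalar elements of GL₂ over a finite field: centralizer orders. -/

set_option autoImplicit false
set_option linter.unusedSectionVars false

open Matrix

namespace Cfsg.Lib.GLTwo

variable {F : Type*} [Field F] [Fintype F]

/-- The norm form of `a + b A`. -/
def form (t d : F) (ab : F × F) : F := ab.1 * ab.1 + t * ab.1 * ab.2 + d * ab.2 * ab.2

variable (F) in
/-- The pairs of norm one. -/
def One (t d : F) : Type _ := {ab : F × F // form t d ab = 1}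

/-- The characteristic polynomial has no root. -/
def Irred (t d : F) : Prop := ∀ x : F, x * x - t * x + d ≠ 0

theorem card_ne_zero' : Nat.card {x : F // x ≠ 0} = Fintype.card F - 1 := by
  classical
  rw [Nat.card_eq_fintype_card, Fintype.card_subtype_compl (fun x : F => x = 0)]
  simp

theorem card_cent {g : GL (Fin 2) F} (hg : NonScalar (g : Matrix (Fin 2) (Fin 2) F)) :
    Nat.card ↥(Subgroup.centralizer ({g} : Set (GL (Fin 2) F))) =
      Nat.card (Good F (g : Matrix (Fin 2) (Fin 2) F).trace (g : Matrix (Fin 2) (Fin 2) F).det) :=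
  (Nat.card_congr (Equiv.ofBijective _ (toCent_bijective hg))).symm

theorem trichotomy (t d : F) :
    Irred t d ∨ (∃ r s, r ≠ s ∧ t = r + s ∧ d = r * s) ∨ ∃ r, t = r + r ∧ d = r * r := by
  by_cases h : Irred t d
  · exact .inl h
  obtain ⟨r, hr⟩ := not_forall.1 h
  rw [not_not] at hr
  by_cases hrs : r = t - r
  · exact .inr (.inr ⟨r, by linear_combination -hrs, by linear_combination hr - r * hrs⟩)
  · exact .inr (.inl ⟨r, t - r, hrs, by ring, by linear_combination hr⟩)

theorem form_eq_zero {t d : F} (h : Irred t d) {ab : F × F} (h0 : form t d ab = 0) : ab = 0 := by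
  obtain ⟨a, b⟩ := ab
  by_cases hb : b = 0
  · subst hb
    simp [form] at h0
    simp [h0]
  · refine absurd ?_ (h (-a / b))
    simp only [form] at h0
    field_simp
    linear_combination h0

theorem card_good_irred {t d : F} (h : Irred t d) : Nat.card (Good F t d) = Fintype.card F ^ 2 - 1 := by
  classical
  rw [show Nat.card (Good F t d) = Nat.card {ab : F × F // ab ≠ 0} from Nat.card_congr (Equiv.subtypeEquivRight
      fun ab => ⟨fun hne h0 => hne (by simp [h0]), fun hne h0 => hne (form_eq_zero h h0)⟩),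
    Nat.card_eq_fintype_card, Fintype.card_subtype_compl (fun x : F × F => x = 0)]
  simp [sq]

/-- Change of coordinates in the split case. -/
def splitEquiv {r s : F} (h : r ≠ s) : F × F ≃ F × F where
  toFun ab := (ab.1 + ab.2 * r, ab.1 + ab.2 * s)
  invFun xy := ((s * xy.1 - r * xy.2) / (s - r), (xy.2 - xy.1) / (s - r))
  left_inv ab := by
    have : s - r ≠ 0 := sub_ne_zero.2 h.symm
    ext <;> field_simp <;> ring
  right_inv xy := by
    have : s - r ≠ 0 := sub_ne_zero.2 h.symm
    ext <;> field_simp <;> ring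

theorem form_split (r s : F) (ab : F × F) :
    form (r + s) (r * s) ab = (ab.1 + ab.2 * r) * (ab.1 + ab.2 * s) := by
  simp only [form]; ring

theorem card_good_split {t d r s : F} (h : r ≠ s) (ht : t = r + s) (hd : d = r * s) :
    Nat.card (Good F t d) = (Fintype.card F - 1) ^ 2 := by
  subst ht; subst hd
  rw [sq, ← card_ne_zero' (F := F), ← Nat.card_prod]
  refine Nat.card_congr ?_
  refine ((splitEquiv h).subtypeEquiv (q := fun xy : F × F => xy.1 ≠ 0 ∧ xy.2 ≠ 0) fun ab => ?_).trans
    (Equiv.subtypeProdEquivProd (p := fun x : F => x ≠ 0) (q := fun y : F => y ≠ 0))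
  exact Iff.trans (Iff.of_eq (congrArg (· ≠ 0) (form_split r s ab))) mul_ne_zero_iff

/-- Change of coordinates in the double case. -/
def doubleEquiv (r : F) : F × F ≃ F × F where
  toFun ab := (ab.1 + ab.2 * r, ab.2)
  invFun xy := (xy.1 - xy.2 * r, xy.2)
  left_inv ab := by ext <;> simp
  right_inv xy := by ext <;> simp

/-- Pairs with a condition on the first coordinate. -/
def fstEquiv (P : F → Prop) : {xy : F × F // P xy.1} ≃ {x : F // P x} × F where
  toFun z := (⟨z.1.1, z.2⟩, z.1.2)
  invFun z := ⟨(z.1.1, z.2), z.1.2⟩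
  left_inv z := rfl
  right_inv z := rfl

theorem card_good_double {t d r : F} (ht : t = r + r) (hd : d = r * r) :
    Nat.card (Good F t d) = Fintype.card F * (Fintype.card F - 1) := by
  subst ht; subst hd
  rw [mul_comm (Fintype.card F), ← card_ne_zero' (F := F), ← Nat.card_eq_fintype_card (α := F), ← Nat.card_prod]
  refine Nat.card_congr (((doubleEquiv r).subtypeEquiv (q := fun xy : F × F => xy.1 ≠ 0) fun ab => ?_).trans
    (fstEquiv fun x : F => x ≠ 0))
  refine Iff.trans (Iff.of_eq (congrArg (· ≠ 0) (form_split r r ab))) ?_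
  exact mul_ne_zero_iff.trans (and_self_iff)

theorem card_one_double {t d r : F} (ht : t = r + r) (hd : d = r * r) :
    Nat.card (One F t d) = Nat.card {x : F // x * x = 1} * Fintype.card F := by
  subst ht; subst hd
  rw [← Nat.card_eq_fintype_card (α := F), ← Nat.card_prod]
  refine Nat.card_congr (((doubleEquiv r).subtypeEquiv (q := fun xy : F × F => xy.1 * xy.1 = 1) fun ab => ?_).trans
    (fstEquiv fun x : F => x * x = 1))
  exact Iff.of_eq (congrArg (· = 1) (form_split r r ab))

theorem card_one_le (t d : F) : Nat.card (One F t d) ≤ 2 * Fintype.card F := by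
  classical
  let a0 : F → F := fun b => if h : ∃ a, form t d (a, b) = 1 then h.choose else 0
  have hinj : Function.Injective (fun z : One F t d => (decide (z.1.1 = a0 z.1.2), z.1.2)) := by
    rintro ⟨⟨a, b⟩, ha⟩ ⟨⟨a', b'⟩, ha'⟩ h
    simp only [Prod.mk.injEq, decide_eq_decide] at h
    obtain ⟨hiff, rfl⟩ := h
    refine Subtype.ext (Prod.ext ?_ rfl)
    have hex : ∃ x, form t d (x, b) = 1 := ⟨a, ha⟩
    have hs : form t d (a0 b, b) = 1 := by simp only [a0, dif_pos hex]; exact hex.choose_spec
    have key : ∀ x, form t d (x, b) = 1 → x = a0 b ∨ x = -(t * b) - a0 b := fun x hx => by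
      simp only [form] at hx hs
      rcases mul_eq_zero.1 (show (x - a0 b) * (x - (-(t * b) - a0 b)) = 0 by linear_combination hx - hs) with e | e
      · exact .inl (sub_eq_zero.1 e)
      · exact .inr (sub_eq_zero.1 e)
    show a = a'
    by_cases hc : a = a0 b
    · rw [hc, hiff.1 hc]
    · rw [(key a ha).resolve_left hc, (key a' ha').resolve_left fun e => hc (hiff.2 e)]
  refine (Nat.card_le_card_of_injective _ hinj).trans ?_
  simp

/-- The determinant homomorphism on the centralizer. -/
noncomputable def detHom (g : GL (Fin 2) F) : ↥(Subgroup.centralizer ({g} : Set (GL (Fin 2) F))) →* Fˣ :=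
  Matrix.GeneralLinearGroup.det.comp (Subgroup.subtype _)

theorem card_ker {g : GL (Fin 2) F} (hg : NonScalar (g : Matrix (Fin 2) (Fin 2) F)) :
    Nat.card ↥(detHom g).ker = Nat.card (One F (g : Matrix (Fin 2) (Fin 2) F).trace (g : Matrix (Fin 2) (Fin 2) F).det) := by
  symm
  refine Nat.card_congr ?_
  refine (Equiv.subtypeSubtypeEquivSubtype (p := fun ab : F × F => ab.1 * ab.1 + _ * ab.1 * ab.2 + _ * ab.2 * ab.2 ≠ 0)
    (q := fun ab => form _ _ ab = 1) fun {ab} h h0 => one_ne_zero (h.symm.trans h0)).symm.trans ?_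
  refine (Equiv.ofBijective _ (toCent_bijective hg)).subtypeEquiv fun ab => ?_
  rw [MonoidHom.mem_ker, Units.ext_iff]
  exact Iff.of_eq (congrArg (· = 1) (det_combo _ ab.1.1 ab.1.2).symm)

theorem full_irred {g : GL (Fin 2) F} (hg : NonScalar (g : Matrix (Fin 2) (Fin 2) F))
    (h : Irred (g : Matrix (Fin 2) (Fin 2) F).trace (g : Matrix (Fin 2) (Fin 2) F).det) :
    (detHom g).range = ⊤ ∧ Full g := by
  classical
  have hq := Fintype.one_lt_card (α := F)
  have hC := (card_cent hg).trans (card_good_irred h)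
  have hker := card_one_le (g : Matrix (Fin 2) (Fin 2) F).trace (g : Matrix (Fin 2) (Fin 2) F).det
  rw [← card_ker hg] at hker
  have hmul : Nat.card ↥(detHom g).ker * Nat.card ↥(detHom g).range = Fintype.card F ^ 2 - 1 := by
    rw [← hC, Subgroup.card_eq_card_quotient_mul_card_subgroup (detHom g).ker,
      Nat.card_congr (QuotientGroup.quotientKerEquivRange (detHom g)).toEquiv, mul_comm]
  have htop : (detHom g).range = ⊤ := by
    by_contra hne
    have hi : 2 ≤ (detHom g).range.index := by
      have h1 : (detHom g).range.index ≠ 1 := fun e => hne (Subgroup.index_eq_one.1 e)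
      have h2 : (detHom g).range.index ≠ 0 := Subgroup.index_ne_zero_of_finite
      omega
    have hU : Nat.card ↥(detHom g).range * (detHom g).range.index = Fintype.card F - 1 := by
      rw [Subgroup.card_mul_index, Nat.card_units, Nat.card_eq_fintype_card]
    have h3 : 2 * Nat.card ↥(detHom g).range ≤ Fintype.card F - 1 := by
      rw [← hU, mul_comm 2]; exact Nat.mul_le_mul_left _ hi
    have h4 := Nat.mul_le_mul hker h3
    obtain ⟨k, hk⟩ : ∃ k, Fintype.card F = k + 2 := ⟨Fintype.card F - 2, by omega⟩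
    rw [hk, show (k + 2) ^ 2 - 1 = k * k + 4 * k + 3 by rw [show (k + 2) ^ 2 = k * k + 4 * k + 3 + 1 by ring]; omega] at hmul
    rw [hk, show k + 2 - 1 = k + 1 by omega] at h4
    nlinarith
  refine ⟨htop, fun c hc => ?_⟩
  obtain ⟨x, hx⟩ := (htop ▸ Subgroup.mem_top (Units.mk0 c hc) : Units.mk0 c hc ∈ (detHom g).range)
  exact ⟨x, x.2, congrArg Units.val hx⟩

theorem full_split {g : GL (Fin 2) F} {r s : F} (h : r ≠ s)
    (ht : (g : Matrix (Fin 2) (Fin 2) F).trace = r + s) (hd : (g : Matrix (Fin 2) (Fin 2) F).det = r * s) :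
    Full g := by
  refine full_of fun c _ => ?_
  obtain ⟨ab, hab⟩ := (splitEquiv h).surjective (c, 1)
  refine ⟨ab.1, ab.2, ?_⟩
  rw [ht, hd]
  refine (form_split r s ab).trans ?_
  rw [show ab.1 + ab.2 * r = c from congrArg Prod.fst hab, show ab.1 + ab.2 * s = 1 from congrArg Prod.snd hab, mul_one]

theorem full_char_two [CharP F 2] {g : GL (Fin 2) F} {r : F}
    (ht : (g : Matrix (Fin 2) (Fin 2) F).trace = r + r) (hd : (g : Matrix (Fin 2) (Fin 2) F).det = r * r) :
    Full g := by
  refine full_of fun c _ => ?_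
  obtain ⟨x, hx⟩ := FiniteField.isSquare_of_char_two (ringChar.eq F 2) c
  exact ⟨x, 0, by rw [hx]; ring⟩

end Cfsg.Lib.GLTwo
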